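import Mathlib

/-!
# Reduction of a finite complex linear group modulo a prime (for S4265)
-/

set_option autoImplicit false

namespace Cfsg.Agent.KoRo

/-- Schur: a nonconstant integer polynomial has a root modulo a prime not dividing `n`.
Proof: let `c = f(0)`.  If `c = 0` take any prime `p ∤ n` (`Nat.exists_infinite_primes`) and `a = 0`.
Otherwise `f(c n x) = c (1 + n x g(x))` with `g ≠ 0` (`Polynomial.X_dvd_sub_C`/`sub_dvd_eval_sub`:
`c n x ∣ f(c n x) - c`); the polynomial `f(c n X)` is nonconstant, so it takes the values `c`, `-c`, `0`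
only finitely often; pick `x` with `f(c n x) = c * m`, `m ≡ 1 (mod n)`, `m ≠ ±1`, and let `p` be a
prime factor of `m` (if `m = 0` then `n = 1`, any prime works). -/
theorem exists_prime_root (f : Polynomial ℤ) (hf : 0 < f.natDegree) {n : ℕ} (hn : n ≠ 0) :
    ∃ p : ℕ, p.Prime ∧ n.Coprime p ∧ ∃ a : ZMod p, Polynomial.aeval a f = 0 := by
  have hev : ∀ (p : ℕ) (y : ℤ), Polynomial.aeval (y : ZMod p) f = ((f.eval y : ℤ) : ZMod p) :=
    fun p y => by
      simpa using Polynomial.aeval_algebraMap_apply_eq_algebraMap_eval (A := ZMod p) y f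
  by_cases hc : f.eval 0 = 0
  · obtain ⟨p, h1, hp⟩ := Nat.exists_infinite_primes (n + 1)
    refine ⟨p, hp, ((Nat.Prime.coprime_iff_not_dvd hp).2
      (Nat.not_dvd_of_pos_of_lt (Nat.pos_of_ne_zero hn) h1)).symm, ((0 : ℤ) : ZMod p), ?_⟩
    rw [hev, hc, Int.cast_zero]
  set c := f.eval 0 with hcd
  have hne : ∀ d : ℤ, f - Polynomial.C d ≠ 0 := fun d h => by
    have := Polynomial.natDegree_sub_C (p := f) (a := d)
    rw [h, Polynomial.natDegree_zero] at this
    omega
  have hfin := Polynomial.finite_setOfPred_isRoot (mul_ne_zero (hne c) (hne (-c)))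
  have hinj : Function.Injective fun x : ℤ => c * n * x :=
    mul_right_injective₀ (mul_ne_zero hc (Int.natCast_ne_zero.2 hn))
  obtain ⟨x, hx⟩ := (hfin.preimage hinj.injOn).infinite_compl.nonempty
  obtain ⟨k, hk⟩ := Polynomial.sub_dvd_eval_sub (c * n * x) 0 f
  have he : f.eval (c * n * x) = c * (1 + n * (x * k)) := by linear_combination hk
  have hm : (1 + n * (x * k) : ℤ).natAbs ≠ 1 := fun h => hx (by
    simp only [Set.mem_preimage, Set.mem_ofPred_eq, Polynomial.IsRoot.def, Polynomial.eval_mul,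
      Polynomial.eval_sub, Polynomial.eval_C, he]
    rcases Int.natAbs_eq_iff.1 h with h | h <;> rw [h] <;> simp)
  obtain ⟨p, hp, hd⟩ := Nat.exists_prime_and_dvd hm
  have hd' : (p : ℤ) ∣ 1 + n * (x * k) := Int.natCast_dvd.2 hd
  refine ⟨p, hp, ((Nat.Prime.coprime_iff_not_dvd hp).2 fun h => hp.one_lt.ne' ?_).symm,
    ((c * n * x : ℤ) : ZMod p), ?_⟩
  · have := (dvd_add_left ((Int.natCast_dvd_natCast.2 h).mul_right (x * k))).1 hd'
    exact Nat.dvd_one.1 (Int.natCast_dvd_natCast.1 this)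
  · rw [hev, he, ZMod.intCast_zmod_eq_zero_iff_dvd]
    exact hd'.mul_left _

/-- The number field case. -/
theorem exists_hom_nf {L : Type*} [Field L] [Algebra ℚ L] [FiniteDimensional ℚ L] (t : Finset L)
    {n : ℕ} (hn : n ≠ 0) : ∃ p : ℕ, p.Prime ∧ n.Coprime p ∧
      ∃ T : Subring L, (t : Set L) ⊆ T ∧ Nonempty (T →+* ZMod p) := by
  have : CharZero L := algebraRat.charZero L
  obtain ⟨β, hβ⟩ := Field.exists_primitive_element ℚ L
  have hq : IsAlgebraic ℚ β := Algebra.IsAlgebraic.isAlgebraic β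
  have halg : IsAlgebraic ℤ β := (IsFractionRing.isAlgebraic_iff ℤ ℚ L).2 hq
  obtain ⟨d, hd0, hα⟩ := halg.exists_integral_multiple
  set α := d • β with hαd
  have key : ∀ x : L, ∃ N : ℤ, N ≠ 0 ∧ (N : L) * x ∈ Algebra.adjoin ℤ {α} := by
    intro x
    have hx : x ∈ Algebra.adjoin ℚ {β} := by
      rw [← IntermediateField.adjoin_simple_toSubalgebra_of_isAlgebraic hq, hβ]
      trivial
    induction hx using Algebra.adjoin_induction with
    | mem y hy =>
      obtain rfl := Set.mem_singleton_iff.1 hy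
      exact ⟨d, hd0, by rw [← zsmul_eq_mul]; exact Algebra.subset_adjoin rfl⟩
    | algebraMap q =>
      refine ⟨q.den, by exact_mod_cast q.den_ne_zero, ?_⟩
      have : ((q.den : ℤ) : L) * algebraMap ℚ L q = (q.num : L) := by
        rw [← map_intCast (algebraMap ℚ L), ← map_mul, Int.cast_natCast, Rat.den_mul_eq_num,
          map_intCast]
      rw [this]
      exact intCast_mem _ _
    | add y z _ _ hy hz =>
      obtain ⟨a, ha, h1⟩ := hy
      obtain ⟨b, hb, h2⟩ := hz
      refine ⟨a * b, mul_ne_zero ha hb, ?_⟩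
      have : ((a * b : ℤ) : L) * (y + z) = b * (a * y) + a * (b * z) := by push_cast; ring
      rw [this]
      exact add_mem (mul_mem (intCast_mem _ _) h1) (mul_mem (intCast_mem _ _) h2)
    | mul y z _ _ hy hz =>
      obtain ⟨a, ha, h1⟩ := hy
      obtain ⟨b, hb, h2⟩ := hz
      refine ⟨a * b, mul_ne_zero ha hb, ?_⟩
      have : ((a * b : ℤ) : L) * (y * z) = (a * y) * (b * z) := by push_cast; ring
      rw [this]
      exact mul_mem h1 h2
  choose D hD0 hD using key
  have hN0 : ∏ x ∈ t, D x ≠ 0 := Finset.prod_ne_zero_iff.2 fun x _ => hD0 x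
  have hN : ∀ x ∈ t, ((∏ x ∈ t, D x : ℤ) : L) * x ∈ Algebra.adjoin ℤ {α} := fun x hx => by
    obtain ⟨e, he⟩ := Finset.dvd_prod_of_mem D hx
    rw [he, Int.cast_mul, mul_comm (D x : L), mul_assoc]
    exact mul_mem (intCast_mem _ _) (hD x)
  generalize ∏ x ∈ t, D x = N at hN0 hN
  obtain ⟨p, hp, hco, a, ha⟩ := exists_prime_root (minpoly ℤ α) (minpoly.natDegree_pos hα)
    (mul_ne_zero hn (Int.natAbs_ne_zero.2 hN0))
  have := Fact.mk hp
  let ψ : Algebra.adjoin ℤ {α} →+* ZMod p :=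
    (AdjoinRoot.lift (algebraMap ℤ (ZMod p)) a ha).comp (minpoly.equivAdjoin hα).symm.toRingHom
  have hu1 : IsUnit (ψ (N : Algebra.adjoin ℤ {α})) := by
    rw [map_intCast, isUnit_iff_ne_zero, Ne, ZMod.intCast_zmod_eq_zero_iff_dvd, Int.natCast_dvd]
    exact (Nat.Prime.coprime_iff_not_dvd hp).1 (Nat.Coprime.coprime_mul_left hco).symm
  have hu2 : IsUnit ((Algebra.adjoin ℤ {α}).val.toRingHom (N : Algebra.adjoin ℤ {α})) := by
    rw [map_intCast, isUnit_iff_ne_zero]
    exact Int.cast_ne_zero.2 hN0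
  let S := Localization.Away (N : Algebra.adjoin ℤ {α})
  let i : S →+* L := IsLocalization.Away.lift (N : Algebra.adjoin ℤ {α}) hu2
  have hi : Function.Injective i := by
    refine IsLocalization.lift_injective_iff _ |>.2 fun x y => ⟨fun h => ?_, fun h => ?_⟩
    · rw [← IsLocalization.Away.lift_eq (S := S) _ hu2 x, h, IsLocalization.Away.lift_eq]
    · rw [Subtype.val_injective h]
  refine ⟨p, hp, Nat.Coprime.coprime_mul_right hco, (⊤ : Subring S).map i, fun x hx => ?_,
    ⟨((IsLocalization.Away.lift (S := S) _ hu1).comp (Subring.subtype _)).comp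
      ((⊤ : Subring S).equivMapOfInjective i hi).symm.toRingHom⟩⟩
  refine ⟨IsLocalization.mk' S (⟨_, hN x hx⟩ : Algebra.adjoin ℤ {α})
    (⟨_, Submonoid.mem_powers _⟩ : Submonoid.powers (N : Algebra.adjoin ℤ {α})), trivial, ?_⟩
  refine (IsLocalization.lift_mk'_spec _ _ _ _).2 ?_
  simp

/-- A finitely generated subring of `ℂ` maps to `ZMod p` for some prime `p ∤ n`.
Proof: `R = Algebra.adjoin ℤ s`.  `A = Algebra.adjoin ℚ s` is a nonzero finite type `ℚ`-algebra; a maximal
ideal gives a field `L = A ⧸ m` finite over `ℚ` (`finite_of_finite_type_of_isJacobsonRing`), a number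
field.  `L = ℚ(α)` (`Field.exists_primitive_element`) and after scaling `α` is integral over `ℤ`
(`IsAlgebraic.exists_integral_multiple`); every element of `L` is `y / N` with `y ∈ ℤ[α]`, choose one
`N ≠ 0` for the finitely many images of `s`.  `ℤ[α] ≃ AdjoinRoot (minpoly ℤ α)`
(`minpoly.equivAdjoin`), so `exists_prime_root` (for `n * N`) gives `ψ : ℤ[α] →+* ZMod p` with
`ψ N` a unit.  The elements `x ∈ L` with `N ^ k * x ∈ ℤ[α]` for some `k` form a subring (or use
`Localization.Away`/`IsLocalization.Away.lift`) containing the image of `R`, on which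
`x ↦ ψ (N ^ k x) / N ^ k` is a ring hom.  (Any other proof is fine.) -/
theorem exists_hom_zmod (s : Finset ℂ) {n : ℕ} (hn : n ≠ 0) :
    ∃ p : ℕ, p.Prime ∧ n.Coprime p ∧ Nonempty (Subring.closure (s : Set ℂ) →+* ZMod p) := by
  classical
  let A := Algebra.adjoin ℚ (s : Set ℂ)
  have : Algebra.FiniteType ℚ A := (Subalgebra.fg_iff_finiteType _).1 ⟨s, rfl⟩
  obtain ⟨m, hm⟩ := Ideal.exists_maximal A
  let := Ideal.Quotient.field m
  have : Module.Finite ℚ (A ⧸ m) := finite_of_finite_type_of_isJacobsonRing ℚ (A ⧸ m)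
  obtain ⟨p, hp, hco, T, hT, ⟨ψ⟩⟩ := exists_hom_nf (L := A ⧸ m)
    (s.attach.image fun x : s => Ideal.Quotient.mk m (⟨x.1, Algebra.subset_adjoin x.2⟩ : A)) hn
  have hle : Subring.closure (s : Set ℂ) ≤
      (T.comap (Ideal.Quotient.mk m)).map A.val.toRingHom :=
    Subring.closure_le.2 fun x hx => ⟨⟨x, Algebra.subset_adjoin hx⟩,
      hT (Finset.mem_coe.2 (Finset.mem_image.2 ⟨⟨x, hx⟩, Finset.mem_attach _ _, rfl⟩)), rfl⟩
  exact ⟨p, hp, hco, ⟨((ψ.comp ((Ideal.Quotient.mk m).restrict _ T fun _ h => h)).comp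
    (Subring.equivMapOfInjective _ A.val.toRingHom Subtype.val_injective).symm.toRingHom).comp
    (Subring.inclusion hle)⟩⟩

/-- A finite subgroup of `GL_r(ℂ)` embeds in `GL_r(ZMod p)` for a prime `p ∤ |G|`.
Proof: `s` = all entries of all elements of `G`, `R = Subring.closure s`, `ψ : R →+* ZMod p` from
`exists_hom_zmod` with `n = |G|`.  `g ↦ (matrix of g over R).map ψ` is a monoid hom
`G →* Matrix _ _ (ZMod p)` (`MonoidHom.toHomUnits`).  If `g ↦ 1` put `S = ∑ i < n, g ^ i` over `R`: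
`S` maps to `n • 1`, so `ψ (det S) = n ^ r ≠ 0`, `det S ≠ 0` in `ℂ`, and `S * (g - 1) = g ^ n - 1 = 0`
(`geom_sum_mul`) gives `g = 1`. -/
theorem exists_zmod_rep (r : ℕ) (G : Subgroup (GL (Fin r) ℂ)) [Finite G] :
    ∃ p : ℕ, p.Prime ∧ (Nat.card G).Coprime p ∧
      ∃ φ : G →* GL (Fin r) (ZMod p), Function.Injective φ := by
  classical
  have := Fintype.ofFinite G
  let s : Finset ℂ := Finset.univ.image fun x : G × Fin r × Fin r => x.1.1.1 x.2.1 x.2.2
  obtain ⟨p, hp, hco, ⟨ψ⟩⟩ := exists_hom_zmod s (Nat.card_pos (α := G)).ne'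
  have := Fact.mk hp
  let R := Subring.closure (s : Set ℂ)
  have hinj : Function.Injective (R.subtype.mapMatrix (m := Fin r)) :=
    fun _ _ h => Matrix.map_injective Subtype.val_injective h
  let f : G → Matrix (Fin r) (Fin r) R := fun g => Matrix.of fun i j => ⟨g.1.1 i j,
    Subring.subset_closure (Finset.mem_coe.2 (Finset.mem_image.2 ⟨(g, i, j), Finset.mem_univ _, rfl⟩))⟩
  have hf : ∀ g, R.subtype.mapMatrix (f g) = g.1.1 := fun g => rfl
  let φ0 : G →* Matrix (Fin r) (Fin r) R :=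
    { toFun := f
      map_one' := hinj (by rw [hf, map_one]; rfl)
      map_mul' := fun a b => hinj (by rw [map_mul, hf, hf, hf]; rfl) }
  refine ⟨p, hp, hco, (ψ.mapMatrix.toMonoidHom.comp φ0).toHomUnits,
    (injective_iff_map_eq_one _).2 fun g hg => ?_⟩
  have h1 : ψ.mapMatrix (φ0 g) = 1 := congrArg Units.val hg
  have h2 := geom_sum_mul (φ0 g) (Nat.card G)
  rw [← map_pow, pow_card_eq_one', map_one, sub_self] at h2
  have h3 : (∑ i ∈ Finset.range (Nat.card G), φ0 g ^ i).det ≠ 0 := fun h => by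
    have := ψ.map_det (∑ i ∈ Finset.range (Nat.card G), φ0 g ^ i)
    rw [h, map_zero, map_sum] at this
    simp only [map_pow, h1, one_pow, Finset.sum_const, Finset.card_range] at this
    rw [← Nat.cast_smul_eq_nsmul (ZMod p), Matrix.det_smul, Matrix.det_one, mul_one] at this
    exact (Nat.Prime.coprime_iff_not_dvd hp).1 hco.symm
      ((ZMod.natCast_eq_zero_iff _ _).1 (eq_zero_of_pow_eq_zero this.symm))
  have h4 := congrArg ((∑ i ∈ Finset.range (Nat.card G), φ0 g ^ i).adjugate * ·) h2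
  simp only [← mul_assoc, Matrix.adjugate_mul, mul_zero, smul_mul_assoc, one_mul] at h4
  have h5 := sub_eq_zero.1 ((smul_eq_zero.1 h4).resolve_left h3)
  refine Subtype.ext (Units.ext ?_)
  rw [← hf g]
  exact (congrArg R.subtype.mapMatrix h5).trans (map_one _)

end Cfsg.Agent.KoRo
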