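import Cfsg.Agent.KoRo.PB

/-!
# Annihilators of a group element in `ℤ[X]`, Clifford's theorem
-/

set_option autoImplicit false

namespace Cfsg.Agent.KoRo
open SolvLin Polynomial

variable {G V : Type*} [Group G] [AddCommGroup V] [DistribMulAction G V]

/-- the action of `f(x)` -/
noncomputable def ev (V : Type*) [AddCommGroup V] [DistribMulAction G V] (x : G) :
    ℤ[X] →ₐ[ℤ] Module.End ℤ V := aeval (DistribMulAction.toModuleEnd ℤ V x)

/-- the polynomials `f` such that `f(x)` kills `U` -/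
noncomputable def ann (x : G) (U : AddSubgroup V) : AddSubgroup ℤ[X] where
  carrier := {f | ∀ u ∈ U, ev V x f u = 0}
  add_mem' := fun {a b} ha hb u hu => by rw [map_add, LinearMap.add_apply, ha u hu, hb u hu, add_zero]
  zero_mem' := fun u _ => by rw [map_zero, LinearMap.zero_apply]
  neg_mem' := fun {a} ha u hu => by rw [map_neg, LinearMap.neg_apply, ha u hu, neg_zero]

theorem ev_monomial (x : G) (n : ℕ) (a : ℤ) (v : V) : ev V x (monomial n a) v = a • x ^ n • v := by
  rw [ev, aeval_monomial, ← map_pow, Module.End.mul_apply, Module.algebraMap_end_apply]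
  rfl

theorem ev_X_pow (x : G) (n : ℕ) (v : V) : ev V x (X ^ n) v = x ^ n • v := by
  rw [X_pow_eq_monomial, ev_monomial, one_smul]

/-- `Polynomial.induction_on'`, `aeval_monomial` -/
theorem ev_hom {G' V' : Type*} [Group G'] [AddCommGroup V'] [DistribMulAction G' V'] (φ : V →+ V')
    {x : G} {y : G'} (h : ∀ v, φ (x • v) = y • φ v) (f : ℤ[X]) (v : V) :
    φ (ev V x f v) = ev V' y f (φ v) := by
  have h1 : ∀ (n : ℕ) v, φ (x ^ n • v) = y ^ n • φ v := fun n => by
    induction n with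
    | zero => simp
    | succ n ih => intro v; rw [pow_succ, pow_succ, mul_smul, mul_smul, ih, h]
  induction f using Polynomial.induction_on' with
  | add f g hf hg => simp only [map_add, LinearMap.add_apply, hf, hg]
  | monomial n a => rw [ev_monomial, ev_monomial, map_zsmul, h1]

/-- `Polynomial.induction_on'` -/
theorem ev_scalar {K : Type*} [Field K] [Module K V] {x : G} {ζ : K} (h : ∀ v : V, x • v = ζ • v)
    (f : ℤ[X]) (v : V) : ev V x f v = aeval ζ f • v := by
  have h1 : ∀ (n : ℕ) (v : V), x ^ n • v = ζ ^ n • v := fun n => by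
    induction n with
    | zero => simp
    | succ n ih => intro v; rw [pow_succ, pow_succ, mul_smul, mul_smul, ih, h]
  induction f using Polynomial.induction_on' with
  | add f g hf hg => simp only [map_add, LinearMap.add_apply, hf, hg, add_smul]
  | monomial n a =>
    rw [ev_monomial, aeval_monomial, h1, mul_smul, algebraMap_int_eq, eq_intCast,
      Int.cast_smul_eq_zsmul]

/-- the quotient embeds in the finite type `U → V` -/
theorem ann_index_ne_zero [Finite V] (x : G) (U : AddSubgroup V) : (ann x U).index ≠ 0 := by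
  let F : ℤ[X] →+ (U → V) := AddMonoidHom.mk' (fun f u => ev V x f u) fun f g => by
    ext u
    simp
  have h : ann x U = F.ker := AddSubgroup.ext fun f =>
    ⟨fun h => funext fun u => h u u.2, fun h u hu => congrFun h ⟨u, hu⟩⟩
  rw [h, AddSubgroup.index_ker]
  exact Nat.card_pos.ne'

/-- If `x` of prime order `p` acts without fixed vectors on the elementary abelian `q`-group `V` and is
conjugate to `x ^ j` for `j ∈ J`, then `ℤ[x]` has at least `2 ^ |J|` elements.
Proof: `I = RingHom.ker (ev V x)` is a proper ideal with carrier `ann x ⊤`; take a maximal ideal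
`m ⊇ I`, `L = ℤ[X] ⧸ m` a field, `ζ` the class of `X`.  `X ^ p - 1`, `C q` and `∑ i < p, X ^ i` lie in `I`
(the norm of a vector is fixed by `x`), so `ζ ^ p = 1`, `(q : L) = 0`, and `ζ ≠ 1` (else `(p : L) = 0` too);
hence `ζ` is a primitive `p`-th root of unity and the `ζ ^ j`, `j ∈ J`, are distinct.  If `f ∈ I` then
`f.comp (X ^ j) ∈ I` (`ev_hom` with `φ = g • ·`, from `x` to `x ^ j`), so `f(ζ ^ j) = 0`.  The map
`S ↦ ∑ i ∈ S, X ^ i` from subsets of `range |J|` is injective modulo `I`: a difference in `I` has degree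
`< |J|` and `|J|` roots in `L`, so it maps to `0` in `L[X]`
(`Polynomial.eq_zero_of_natDegree_lt_card_of_eval_eq_zero'`), and its coefficients are `0, ±1`. -/
theorem two_pow_le_ann [Finite V] [Nontrivial V] {p q : ℕ} (hp : p.Prime) (hq : q.Prime)
    (hpq : p ≠ q) (hV : ∀ v : V, q • v = 0) {x : G} (hxp : ∀ v : V, x ^ p • v = v)
    (hf : ∀ v : V, x • v = v → v = 0) (J : Finset ℕ)
    (hJ : ∀ j ∈ J, j < p ∧ ∃ g : G, ∀ v : V, g • x • v = x ^ j • g • v) :
    2 ^ J.card ≤ (ann x (⊤ : AddSubgroup V)).index := by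
  classical
  have := Fact.mk hp
  obtain ⟨m, hm, hI⟩ := Ideal.exists_le_maximal _ (RingHom.ker_ne_top (ev V x))
  let _ := Ideal.Quotient.field m
  let ζ : ℤ[X] ⧸ m := Ideal.Quotient.mk m X
  have h0 : ∀ f : ℤ[X], (∀ v, ev V x f v = 0) → aeval ζ f = 0 := fun f hf => by
    have h1 := aeval_algHom_apply (Ideal.Quotient.mkₐ ℤ m) X f
    rw [aeval_X_left_apply] at h1
    refine h1.trans ?_
    exact Ideal.Quotient.eq_zero_iff_mem.2 (hI (LinearMap.ext hf))
  have h1 : ζ ^ p = 1 := by
    have := h0 (X ^ p - 1) fun v => by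
      rw [map_sub, map_one, LinearMap.sub_apply, ev_X_pow, hxp, Module.End.one_apply, sub_self]
    rwa [map_sub, map_pow, aeval_X, map_one, sub_eq_zero] at this
  have h2 : (q : ℤ[X] ⧸ m) = 0 := by
    have := h0 q fun v => by rw [map_natCast, Module.End.natCast_apply, hV]
    rwa [map_natCast] at this
  have h3 : ζ ≠ 1 := fun h => by
    have h4 := h0 (∑ i ∈ Finset.range p, X ^ i) fun v => hf _ (by
      simp only [map_sum, LinearMap.sum_apply, ev_X_pow, Finset.smul_sum, ← mul_smul, ← pow_succ']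
      refine add_right_cancel (b := x ^ 0 • v) ?_
      rw [← Finset.sum_range_succ' (fun i => x ^ i • v), Finset.sum_range_succ, hxp, pow_zero,
        one_smul])
    have h5 : IsCoprime (p : ℤ[X] ⧸ m) q := ((Nat.coprime_primes hp hq).2 hpq).cast
    simp only [map_sum, map_pow, aeval_X, h, one_pow, Finset.sum_const, Finset.card_range,
      nsmul_eq_mul, mul_one] at h4
    rw [h4, h2] at h5
    exact not_isCoprime_zero_zero h5
  have h4 : orderOf ζ = p := orderOf_eq_prime h1 h3
  have h5 : (J.image fun j => ζ ^ j).card = J.card := Finset.card_image_of_injOn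
    fun i hi j hj h => pow_injOn_Iio_orderOf (h4 ▸ (hJ i hi).1) (h4 ▸ (hJ j hj).1) h
  have h6 : ∀ f : ℤ[X], (∀ v, ev V x f v = 0) → ∀ j ∈ J, aeval (ζ ^ j) f = 0 := fun f hf j hj => by
    obtain ⟨g, hg⟩ := (hJ j hj).2
    have h7 := h0 (f.comp (X ^ j)) fun v => by
      have h8 := ev_hom (DistribSMul.toAddMonoidHom V g) hg f (g⁻¹ • v)
      rw [hf, map_zero, DistribSMul.toAddMonoidHom_apply, smul_inv_smul] at h8
      rw [h8, ev, ev, aeval_comp, map_pow, aeval_X, map_pow]
    rwa [aeval_comp, map_pow, aeval_X] at h7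
  have : Finite (ℤ[X] ⧸ ann x (⊤ : AddSubgroup V)) :=
    Nat.finite_of_card_ne_zero (ann_index_ne_zero x ⊤)
  have h7 : ∀ S : Finset (Fin J.card), (∑ i ∈ S, (X : (ℤ[X] ⧸ m)[X]) ^ (i : ℕ)).degree < J.card :=
    fun S => (degree_sum_le _ _).trans_lt ((Finset.sup_lt_iff (WithBot.bot_lt_coe _)).2
      fun i _ => by rw [degree_X_pow]; exact_mod_cast i.2)
  have h8 := Nat.card_le_card_of_injective (β := ℤ[X] ⧸ ann x (⊤ : AddSubgroup V))
    (fun S : Finset (Fin J.card) => QuotientAddGroup.mk (∑ i ∈ S, (X : ℤ[X]) ^ (i : ℕ)))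
    fun S T h => by
      have h9 := h6 _ (fun v => QuotientAddGroup.eq.1 h v trivial)
      have h10 : ∑ i ∈ S, (X : (ℤ[X] ⧸ m)[X]) ^ (i : ℕ) = ∑ i ∈ T, X ^ (i : ℕ) :=
        eq_of_degrees_lt_of_eval_finset_eq (J.image fun j => ζ ^ j)
        (by rw [h5]; exact h7 S) (by rw [h5]; exact h7 T) fun z hz => by
          obtain ⟨j, hj, rfl⟩ := Finset.mem_image.1 hz
          have h11 := h9 j hj
          rw [map_add, map_neg, neg_add_eq_zero] at h11
          simpa [eval_finsetSum] using h11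
      ext i
      have h11 := congrArg (coeff · i) h10
      simp only [finsetSum_coeff, coeff_X_pow, Fin.val_inj, Finset.sum_ite_eq] at h11
      by_cases h12 : i ∈ S <;> by_cases h13 : i ∈ T <;> simp [h12, h13] at h11 ⊢
  rwa [Nat.card_eq_fintype_card, Fintype.card_finset, Fintype.card_fin] at h8

/-- Clifford: a normal subgroup acts completely reducibly on an irreducible module.
Proof: let `U₀` be a minimal nonzero `N`-invariant subgroup; its translates `g • U₀` are again minimal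
and generate a `G`-invariant subgroup, hence `V`.  Given `U`, take `W` maximal among `N`-invariant
subgroups with `U ⊓ W = ⊥` (`Finite.exists_le_maximal`); if some `g • U₀ ≰ U ⊔ W` then
`(U ⊔ W) ⊓ g • U₀ = ⊥` and `W ⊔ g • U₀` contradicts maximality. -/
theorem cr_of_normal [Finite V] (h : Irr G V) (N : Subgroup G) [N.Normal] : CR N V := by
  intro U hU
  have := h.1
  obtain ⟨U₀, ⟨h0, h1⟩, h2⟩ := exists_minimal_of_wellFoundedLT
    (fun A : AddSubgroup V => A ≠ ⊥ ∧ Inv N A) ⟨⊤, top_ne_bot, fun _ _ _ => trivial⟩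
  obtain ⟨W, ⟨h3, h4⟩, h5⟩ := exists_maximal_of_wellFoundedGT
    (fun A : AddSubgroup V => Inv N A ∧ U ⊓ A = ⊥)
    ⟨⊥, fun g v hv => by rw [AddSubgroup.mem_bot.1 hv, smul_zero]; exact zero_mem _, inf_bot_eq _⟩
  refine ⟨W, h3, h4, ?_⟩
  have hs : ∀ {A B : AddSubgroup V}, Inv N A → Inv N B → Inv N (A ⊔ B) := fun hA hB g v hv => by
    obtain ⟨a, ha, b, hb, rfl⟩ := AddSubgroup.mem_sup.1 hv
    rw [smul_add]
    exact AddSubgroup.add_mem_sup (hA g a ha) (hB g b hb)
  have h6 : ∀ g : G, ∀ u ∈ U₀, g • u ∈ U ⊔ W := fun g => by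
    let S := (U ⊔ W).comap (DistribSMul.toAddMonoidHom V g)
    by_cases h7 : U₀ ⊓ S = ⊥
    · have h8 := h5 (y := W ⊔ U₀.map (DistribSMul.toAddMonoidHom V g)) ⟨hs h3 (by
        rintro n _ ⟨u, hu, rfl⟩
        refine ⟨_, h1 ⟨g⁻¹ * n * g, ‹N.Normal›.conj_mem' n n.2 g⟩ u hu, ?_⟩
        change g • (g⁻¹ * n * g) • u = (n : G) • g • u
        rw [← mul_smul, ← mul_smul]
        congr 1
        group), eq_bot_iff.2 fun v hv => by
          obtain ⟨w, hw, _, ⟨u, hu, rfl⟩, rfl⟩ := AddSubgroup.mem_sup.1 hv.2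
          have h8 : u = 0 := AddSubgroup.mem_bot.1 (h7.le ⟨hu, (AddSubgroup.add_mem_cancel_left _
            (AddSubgroup.mem_sup_right hw)).1 (AddSubgroup.mem_sup_left hv.1)⟩)
          rw [h8, map_zero, add_zero] at hv ⊢
          exact h4.le ⟨hv.1, hw⟩⟩ le_sup_left
      exact fun u hu => AddSubgroup.mem_sup_right (h8 (AddSubgroup.mem_sup_right ⟨u, hu, rfl⟩))
    · refine fun u hu => (h2 (y := U₀ ⊓ S) ⟨h7, fun n v hv => ⟨h1 n v hv.1, ?_⟩⟩ inf_le_left hu).2
      change g • (n : G) • v ∈ U ⊔ W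
      rw [← mul_smul, show g * n = g * n * g⁻¹ * g by group, mul_smul]
      exact hs hU h3 ⟨g * n * g⁻¹, ‹N.Normal›.conj_mem n n.2 g⟩ _ hv.2
  rcases h.2 (⨅ g : G, (U ⊔ W).comap (DistribSMul.toAddMonoidHom V g)) (fun g v hv => by
    rw [AddSubgroup.mem_iInf] at hv ⊢
    intro g'
    change g' • g • v ∈ U ⊔ W
    rw [← mul_smul]
    exact hv (g' * g)) with h7 | h7
  · exact absurd (eq_bot_iff.2 fun u hu => h7.le (AddSubgroup.mem_iInf.2 fun g => h6 g u hu)) h0
  · exact eq_top_iff.2 fun v _ => by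
      simpa using AddSubgroup.mem_iInf.1 (h7.ge (AddSubgroup.mem_top v)) 1

end Cfsg.Agent.KoRo
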