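import Cfsg.Agent.S4201
import Cfsg.Agent.KSG.ConjSum

/-!
# Class numbers of all subgroups of a quotient
-/

set_option autoImplicit false
set_option linter.style.haveILetI false
set_option linter.unusedSectionVars false

namespace Cfsg.Agent.KoRo
open Subgroup

/-- every subgroup of `X` has at most `n` conjugacy classes -/
def SK (X : Type*) [Group X] (n : ℕ) : Prop := ∀ H : Subgroup X, Nat.card (ConjClasses H) ≤ n

/-- every subgroup of `G ⧸ core N` has at most `n` conjugacy classes -/
def RK {G : Type*} [Group G] (N : Subgroup G) (n : ℕ) : Prop := SK (G ⧸ N.normalCore) n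

variable {X Y G : Type*} [Group X] [Group Y] [Group G] {a b c n : ℕ}

theorem k_surj [Finite X] (f : X →* Y) (hf : Function.Surjective f) :
    Nat.card (ConjClasses Y) ≤ Nat.card (ConjClasses X) :=
  Nat.card_le_card_of_surjective _ (ConjClasses.map_surjective hf)

theorem SK.le (h : SK X a) (hab : a ≤ b) : SK X b := fun H => (h H).trans hab

theorem SK.top [Finite X] (h : SK X n) : Nat.card (ConjClasses X) ≤ n :=
  (k_surj (topEquiv (G := X)).toMonoidHom topEquiv.surjective).trans (h ⊤)

theorem SK.of_surj [Finite X] (h : SK X n) (f : X →* Y) (hf : Function.Surjective f) : SK Y n :=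
  fun H => (k_surj (f.subgroupComap H) (f.subgroupComap_surjective_of_surjective H hf)).trans (h _)

theorem SK.of_inj [Finite Y] (h : SK Y n) (f : X →* Y) (hf : Function.Injective f) : SK X n :=
  fun H => (k_surj (H.equivMapOfInjective f hf).symm.toMonoidHom
    (H.equivMapOfInjective f hf).symm.surjective).trans (h _)

theorem SK.of_card [Finite X] (h : Nat.card X ≤ n) : SK X n := fun H =>
  (Nat.card_le_card_of_surjective _ ConjClasses.mk_surjective).trans (H.card_le_card_group.trans h)

theorem SK.ext [Finite X] (N : Subgroup X) [N.Normal] (h1 : SK N a) (h2 : SK (X ⧸ N) b) :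
    SK X (a * b) := by
  intro H
  refine (S4201.result (N.subgroupOf H)).trans (Nat.mul_le_mul ?_ ?_)
  · refine (h1.of_inj ((H.subtype.comp (N.subgroupOf H).subtype).codRestrict N fun x => x.2)
      fun x y h => ?_).top
    exact Subtype.ext (Subtype.ext (congrArg (Subtype.val : N → X) h))
  · refine (h2.of_inj (QuotientGroup.map _ N H.subtype le_rfl) ?_).top
    rw [injective_iff_map_eq_one]
    intro x hx
    induction x using QuotientGroup.induction_on with | H x => ?_
    exact (QuotientGroup.eq_one_iff _).2 ((QuotientGroup.eq_one_iff (x : X)).1 hx)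

theorem k_avg [Finite X] (A : Set X) (h : ∀ x ∉ A, Nat.card (centralizer ({x} : Set X)) ≤ c) :
    Nat.card (ConjClasses X) * Nat.card X + A.ncard * c ≤
      A.ncard * Nat.card X + Nat.card X * c := by
  classical
  haveI := Fintype.ofFinite X
  rw [KSG.card_conjClasses_mul_card_eq_sum, ← Finset.sum_filter_add_sum_filter_not _ (· ∈ A)]
  have e1 : (Finset.univ.filter (· ∈ A)).card = A.ncard := by
    rw [← Set.ncard_coe_finset]
    congr 1
    ext x
    simp
  have e2 := Finset.card_filter_add_card_filter_not (s := Finset.univ) (· ∈ A)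
  have h1 := Finset.sum_le_card_nsmul (Finset.univ.filter (· ∈ A))
    (fun g : X => Nat.card (centralizer ({g} : Set X))) (Nat.card X) fun x _ => card_le_card_group _
  have h2 := Finset.sum_le_card_nsmul (Finset.univ.filter (· ∉ A))
    (fun g : X => Nat.card (centralizer ({g} : Set X))) c fun x hx => h x (Finset.mem_filter.1 hx).2
  rw [Finset.card_univ, ← Nat.card_eq_fintype_card, e1] at e2
  rw [e1, smul_eq_mul] at h1
  rw [smul_eq_mul] at h2
  have e3 : Nat.card X * c = A.ncard * c + (Finset.univ.filter (· ∉ A)).card * c := by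
    rw [← add_mul, e2]
  omega

theorem SK.avg [Finite X] (A : Set X) (h1 : 1 ∈ A) (ha : A.ncard ≤ a) (hc : 0 < c)
    (h : ∀ x ∉ A, Nat.card (centralizer ({x} : Set X)) ≤ c) : SK X (a + c - 1) := by
  intro H
  have h2 := k_avg (X := H) (Subtype.val ⁻¹' A) (c := c) fun x hx => by
    rw [KSG.card_centralizer_subgroup]
    exact (card_le_of_le inf_le_left).trans (h x hx)
  have h3 : (Subtype.val ⁻¹' A : Set H).ncard ≤ a :=
    (Set.ncard_le_ncard_of_injOn Subtype.val (fun _ hx => hx) Subtype.val_injective.injOn).trans ha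
  have h4 : 0 < (Subtype.val ⁻¹' A : Set H).ncard := (Set.ncard_pos).2 ⟨1, h1⟩
  have h5 : Nat.card (ConjClasses H) * Nat.card H < (a + c) * Nat.card H := by
    have := Nat.mul_le_mul_right (Nat.card H) h3
    have := Nat.mul_pos h4 hc
    rw [add_mul, mul_comm c]
    omega
  have := Nat.lt_of_mul_lt_mul_right h5
  omega

variable [Finite G] {N A B : Subgroup G}

omit [Finite G] in
theorem RK.le (h : RK N a) (hab : a ≤ b) : RK N b := SK.le h hab

theorem RK.sk (h : RK N n) (f : G →* Y) (hf : Function.Surjective f) (hk : N.normalCore ≤ f.ker) :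
    SK Y n :=
  SK.of_surj h (QuotientGroup.lift _ f hk) (QuotientGroup.lift_surjective_of_surjective _ _ hf hk)

theorem RK.of_hom [Finite Y] (h : SK Y n) (f : G →* Y) (hf : f.ker ≤ N) : RK N n := by
  refine (h.of_inj _ (QuotientGroup.kerLift_injective f)).of_surj
    (QuotientGroup.map _ _ (MonoidHom.id G) (normal_le_normalCore.2 hf)) fun x => ?_
  induction x using QuotientGroup.induction_on with | H x => exact ⟨x, rfl⟩

theorem RK.quot [N.Normal] (h : RK N n) : SK (G ⧸ N) n :=
  h.sk (QuotientGroup.mk' N) (QuotientGroup.mk'_surjective N)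
    (by rw [QuotientGroup.ker_mk']; exact N.normalCore_le)

theorem RK.core (h : RK N n) (hA : N.normalCore ≤ A) : RK A n :=
  RK.of_hom h (QuotientGroup.mk' _) (by rwa [QuotientGroup.ker_mk'])

theorem RK.mono (h : RK N n) (hA : N ≤ A) : RK A n := h.core (N.normalCore_le.trans hA)

theorem RK.comap {G' : Type*} [Group G'] [Finite G'] (h : RK N n) (φ : G' →* G) :
    RK (N.comap φ) n :=
  RK.of_hom h ((QuotientGroup.mk' _).comp φ) fun x hx =>
    N.normalCore_le ((QuotientGroup.eq_one_iff (φ x)).1 hx)

theorem RK.of_index [N.Normal] (h : N.index ≤ n) : RK N n :=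
  RK.of_hom (SK.of_card (X := G ⧸ N) h) (QuotientGroup.mk' N) (QuotientGroup.ker_mk' N).le

theorem RK.top : RK (⊤ : Subgroup G) 1 := RK.of_index index_top.le

theorem SK.rk (h : SK G n) : RK N n := RK.of_hom h (MonoidHom.id G) (by simp)

theorem RK.ext [N.Normal] (h : RK N b) (h1 : SK N a) : SK G (a * b) := SK.ext N h1 h.quot

theorem RK.trans [A.Normal] [B.Normal] (hB : RK B b) (hA : RK (A.subgroupOf B) a) :
    RK A (a * b) := by
  let π := QuotientGroup.mk' A
  haveI : (B.map π).Normal := Normal.map inferInstance π (QuotientGroup.mk'_surjective A)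
  refine RK.of_hom (SK.ext (B.map π) ?_ ?_) π (QuotientGroup.ker_mk' A).le
  · refine hA.sk (π.subgroupMap B) (π.subgroupMap_surjective B) fun x hx => Subtype.ext ?_
    exact (QuotientGroup.eq_one_iff (x : G)).2 (normalCore_le (A.subgroupOf B) hx)
  · refine hB.sk ((QuotientGroup.mk' _).comp π) ((QuotientGroup.mk'_surjective _).comp
      (QuotientGroup.mk'_surjective A)) fun x hx => ?_
    exact (QuotientGroup.eq_one_iff (π x)).2 ⟨x, normalCore_le _ hx, rfl⟩

theorem RK.inf (hA : RK A a) (hB : RK B b) : RK (A ⊓ B) (a * b) := by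
  refine RK.mono (N := A.normalCore ⊓ B.normalCore) ?_ (inf_le_inf A.normalCore_le B.normalCore_le)
  exact (hB.core le_rfl).trans (((hA.core le_rfl).comap B.normalCore.subtype).mono
    fun x hx => ⟨hx, x.2⟩)

theorem RK.biInf {ι : Type*} (s : Finset ι) (N : ι → Subgroup G) (h : ∀ i, RK (N i) c) :
    RK (⨅ i ∈ s, N i) (c ^ s.card) := by
  classical
  induction s using Finset.induction_on with
  | empty => simpa using RK.top
  | insert i s hi ih =>
    rw [Finset.iInf_insert, Finset.card_insert_of_notMem hi, pow_succ']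
    exact (h i).inf ih

theorem RK.fact (H : Subgroup G) : RK H H.index.factorial := by
  classical
  haveI := Fintype.ofFinite (G ⧸ H)
  refine RK.of_hom (SK.of_card ?_) (MulAction.toPermHom G (G ⧸ H))
    (H.normalCore_eq_ker ▸ H.normalCore_le)
  rw [Nat.card_perm]
  rfl

/-- the wreath product bound -/
theorem RK.coset {H : Subgroup G} {N : Subgroup H} (hN : RK N c) (hH : RK H b) :
    RK (N.map H.subtype) (c ^ H.index * b) := by
  haveI := Fintype.ofFinite (G ⧸ H)
  let φ : G ⧸ H → (H.normalCore →* H) := fun ω =>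
    ((MulAut.conj ω.out⁻¹).toMonoidHom.comp H.normalCore.subtype).codRestrict H fun x => x.2 _
  have h1 := RK.biInf Finset.univ _ fun ω => (hN.core le_rfl).comap (φ ω)
  rw [Finset.card_univ, ← Nat.card_eq_fintype_card] at h1
  refine RK.mono (N := (N.map H.subtype).normalCore) ((hH.core le_rfl).trans (h1.mono ?_))
    (normalCore_le _)
  intro x hx g
  simp only [Finset.mem_univ, iInf_true, mem_iInf, mem_comap] at hx
  obtain ⟨k, hk⟩ := QuotientGroup.mk_out_eq_mul H g⁻¹
  refine ⟨_, hx (g⁻¹ : G) k, ?_⟩
  simp only [φ, coe_subtype, coe_mul, coe_inv, MonoidHom.codRestrict_apply, MonoidHom.comp_apply,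
    MulEquiv.toMonoidHom_eq_coe, MonoidHom.coe_coe, MulAut.conj_apply, hk]
  group

end Cfsg.Agent.KoRo
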