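import Cfsg.Agent.Block.FongRed
import Cfsg.Agent.Char.GoodClass
import Cfsg.Agent.PLocal.PSolv

/-!
# Block sizes of solvable groups from class numbers (for S4990)
-/

set_option autoImplicit false

namespace Cfsg.Agent.KoRo
open Cfsg Cfsg.Agent.Block

universe u

/-- Gallagher: over an invariant `θ ∈ Irr N` there are at most `k(G ⧸ N)` irreducible characters.
Proof: `Char/GoodClass` `card_over_eq_sum_good` (with ambient group `G`, subgroup `⊤`; transport
`IrrCharacter (⊤ : Subgroup G)` along `Subgroup.topEquiv`, or redo its 10-line proof) gives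
`|Irr(G|θ)| * |N| * |G| = #{(g, x) : g good, [x, g] ∈ N} ≤ #{(g, x) : [x, g] ∈ N}
= |N|² * #{commuting pairs of G ⧸ N} = |N|² * k(G ⧸ N) * |G ⧸ N|`
(`card_comm_eq_card_conjClasses_mul_card`). -/
theorem ncard_above_le {G : Type*} [Group G] [Finite G] (N : Subgroup G) [N.Normal] [Fintype N]
    (θ : IrrCharacter N) (hθ : ∀ g : G, conjIrr N θ g = θ) :
    (above N {θ}).ncard ≤ Nat.card (ConjClasses (G ⧸ N)) := by
  classical
  have := Fintype.ofFinite G
  have := Fintype.ofFinite (G ⧸ N)
  have := Fintype.ofFinite (⊤ : Subgroup G)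
  have h1 := Char.card_over_eq_sum_good (K := N) (G := ⊤) le_top Subgroup.le_normalizer_of_normal
    (θ := θ) fun s _ g g' e => by
      have := congrFun (congrArg Subtype.val (hθ s)) g
      rw [conjIrr_apply] at this
      rw [← this]
      exact congrArg _ (Subtype.ext e)
  have h2 : Nat.card {χ : IrrCharacter (⊤ : Subgroup G) // Char.nmult (le_top : N ≤ ⊤) χ.1 θ.1 ≠ 0} =
      (above N {θ}).ncard := by
    rw [← Nat.card_coe_set_eq]
    refine Nat.card_congr ((Char.irrCongr Subgroup.topEquiv).symm.subtypeEquiv fun χ => ?_)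
    rw [Char.nmult_ne_zero_iff, mem_above_singleton]
    rfl
  have hs : ∀ f : G ⧸ N → ℕ, ∑ g : (⊤ : Subgroup G), f (g : G) = Nat.card N * ∑ q, f q := fun f => by
    refine (Subgroup.topEquiv.toEquiv.sum_comp fun g : G => f g).trans ?_
    rw [Char.sum_eq_sum_quotient_sum N fun g : G => f g, Finset.mul_sum]
    refine Finset.sum_congr rfl fun q _ => ?_
    simp
  have h3 : ∑ g : (⊤ : Subgroup G), ∑ x : (⊤ : Subgroup G),
      (if Commute ((g : G) : G ⧸ N) ((x : G) : G ⧸ N) then 1 else 0) =
      Nat.card N * (Nat.card N * (Nat.card (ConjClasses (G ⧸ N)) * Nat.card (G ⧸ N))) := by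
    rw [hs fun q => ∑ x : (⊤ : Subgroup G), if Commute q ((x : G) : G ⧸ N) then 1 else 0,
      ← card_comm_eq_card_conjClasses_mul_card,
      Nat.card_eq_fintype_card (α := {p : (G ⧸ N) × (G ⧸ N) // Commute p.1 p.2}),
      Fintype.card_subtype, Finset.card_filter, Fintype.sum_prod_type]
    simp only [fun q : G ⧸ N => hs fun r => if Commute q r then 1 else 0, Finset.mul_sum]
  have h4 : (above N {θ}).ncard * Nat.card N * Nat.card G ≤
      Nat.card N * (Nat.card N * (Nat.card (ConjClasses (G ⧸ N)) * Nat.card (G ⧸ N))) := by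
    rw [h2, Subgroup.card_top] at h1
    rw [← h3]
    have h5 : (above N {θ}).ncard * Nat.card N * Nat.card G = ∑ g : (⊤ : Subgroup G),
        ∑ x : (⊤ : Subgroup G), if Char.GoodFor θ.1 ⊤ (g : G) ∧
          (x : G) * g * (x : G)⁻¹ * (g : G)⁻¹ ∈ N then 1 else 0 := by
      exact_mod_cast h1
    rw [h5]
    refine Finset.sum_le_sum fun g _ => Finset.sum_le_sum fun x _ => ?_
    split_ifs with a b
    · rfl
    · refine (b ?_).elim
      have := (QuotientGroup.eq_one_iff _).2 a.2
      simp only [QuotientGroup.mk_mul, QuotientGroup.mk_inv] at this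
      exact (commutatorElement_eq_one_iff_commute.1 this).symm
    all_goals exact Nat.zero_le _
  rw [Subgroup.card_eq_card_quotient_mul_card_subgroup N] at h4
  have hp : 0 < Nat.card N * (Nat.card (G ⧸ N) * Nat.card N) :=
    Nat.mul_pos Nat.card_pos (Nat.mul_pos Nat.card_pos Nat.card_pos)
  refine Nat.le_of_mul_le_mul_right (le_of_eq_of_le ?_ (h4.trans_eq ?_)) hp <;> ring

/-- Fong reduction of the size of a block.
Proof: `Block.fong_induction` with motive `IsSolvable G → ncard B ≤ f (blockDefect p B)`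
(solvable ⇒ `IsPSolvable`, see `ca find IsPSolvable`).  Step: `mem_iff_of_isInducedBlock_aboveIn`
(`B` is the image of `B'` under induction, so `ncard B ≤ ncard B'`) and
`blockDefect_of_isInducedBlock_aboveIn` (`isPBlock_singleton_of_not_dvd` for the block `{θ}`).
Base: `ncard_above_le`, `hgrp` for `X = G ⧸ O_{p'}(G)` (`pPrimeCore` of the quotient is `⊥`, see
`ca find pPrimeCore_quotient`), and the defect is `v_p |G| = v_p |X|` by `isDefectGroup_above_iff` and
`card_defectGroup`. -/
theorem block_bound {p : ℕ} [Fact p.Prime] (f : ℕ → ℕ)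
    (hgrp : ∀ (X : Type u) [Group X] [Finite X], Group.IsSolvable X → pPrimeCore p X = ⊥ →
      Nat.card (ConjClasses X) ≤ f ((Nat.card X).factorization p))
    {G : Type u} [Group G] [Finite G] (hsolv : Group.IsSolvable G) {M : Ideal AlgInt}
    (hM : IsPModular p M) {B : Set (IrrCharacter G)} (hB : IsPBlock M B) :
    Set.ncard B ≤ f (blockDefect p B) := by
  refine fong_induction hM (fun G _ _ B => Group.IsSolvable G → B.ncard ≤ f (blockDefect p B))
    (fun G _ _ _ _ θ hθ hB hs => ?_) (fun G _ _ _ _ θ T _ hNT _ hT B' B hB' hind ih hs => ?_)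
    G PLocal.isPSolvable_of_isSolvable B hB hsolv
  · have hN := Grp.not_dvd_card_pPrimeCore p G
    have h1 := card_defectGroup hM hB
      ((isDefectGroup_above_iff hM hN hθ hB).2 ⟨(default : Sylow p G), rfl⟩)
    rw [Sylow.card_eq_multiplicity, Subgroup.card_eq_card_quotient_mul_card_subgroup (pPrimeCore p G),
      Nat.factorization_mul Nat.card_pos.ne' Nat.card_pos.ne', Finsupp.add_apply,
      Nat.factorization_eq_zero_of_not_dvd hN, add_zero] at h1
    rw [← Nat.pow_right_injective (Fact.out : p.Prime).two_le h1]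
    exact (ncard_above_le _ θ hθ).trans
      (hgrp _ inferInstance (Grp.pPrimeCore_quotient_pPrimeCore p G))
  · have hb := isPBlock_singleton_of_not_dvd hM (Grp.not_dvd_card_pPrimeCore p G) θ
    rw [blockDefect_of_isInducedBlock_aboveIn hM hb hT.le hB' hind]
    refine le_trans ?_ (ih inferInstance)
    choose g hg1 hg2 using fun χ : B =>
      (mem_iff_of_isInducedBlock_aboveIn hM hb hT.le hB' hind).1 χ.2
    rw [← Nat.card_coe_set_eq, ← Nat.card_coe_set_eq]
    refine Nat.card_le_card_of_injective (fun χ : B => (⟨g χ, hg1 χ⟩ : B')) fun a b h => ?_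
    exact Subtype.ext (Subtype.ext (by rw [hg2 a, hg2 b, show g a = g b from congrArg Subtype.val h]))

end Cfsg.Agent.KoRo
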