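import Cfsg.Agent.KoRo.Base

/-!
# Lower bounds for class numbers
-/

set_option autoImplicit false

namespace Cfsg.Agent.KoRo
open Subgroup

namespace Low

theorem seven {d m : ℕ} (h : d ∣ m) : d = m ∨ 2 * d = m ∨ 3 * d = m ∨ 4 * d = m ∨ 5 * d = m ∨
    6 * d = m ∨ 7 * d ≤ m ∨ m = 0 := by
  obtain ⟨e, rfl⟩ := h
  by_cases h7 : 7 ≤ e
  · have := Nat.mul_le_mul_left d h7
    omega
  · push Not at h7
    interval_cases e <;> omega

theorem egypt3 {m a b c : ℕ} (ha : a ∣ m) (hb : b ∣ m) (hc : c ∣ m) (h : 1 + (a + b + c) = m) :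
    m ≤ 42 := by
  rcases seven ha with h1 | h1 | h1 | h1 | h1 | h1 | h1 | h1 <;>
  rcases seven hb with h2 | h2 | h2 | h2 | h2 | h2 | h2 | h2 <;>
  first | omega | (have := seven hc; omega)

theorem egypt2 {m a b : ℕ} (ha : a ∣ m) (hb : b ∣ m) (h : 1 + (a + b) = m) : m ≤ 6 := by
  have := seven ha
  have := seven hb
  omega

theorem egypt1 {m a : ℕ} (ha : a ∣ m) (h : 1 + a = m) : m ≤ 2 := by
  have := seven ha
  omega

end Low

/-- Landau's bound for at most four classes.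
Proof: class equation (`sum_conjClasses_card_eq_card`, `KSG.card_carrier_eq_index`): `m = |X|` is `1` plus
the sizes of the `≤ 3` other classes, each a divisor of `m` (pad with zeros).  For `d ∣ m` and every `r`:
`m ≤ r * d ∨ (r + 1) * d ≤ m`; feed these for `r = 1..6` to `omega`. -/
theorem landau (X : Type*) [Group X] [Finite X] :
    (Nat.card (ConjClasses X) ≤ 1 → Nat.card X ≤ 1) ∧
    (Nat.card (ConjClasses X) ≤ 2 → Nat.card X ≤ 2) ∧
    (Nat.card (ConjClasses X) ≤ 3 → Nat.card X ≤ 6) ∧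
    (Nat.card (ConjClasses X) ≤ 4 → Nat.card X ≤ 42) := by
  classical
  have := Fintype.ofFinite X
  have := Fintype.ofFinite (ConjClasses X)
  let f : ConjClasses X → ℕ := fun c => Nat.card c.carrier
  have hf : ∀ c, f c ∣ Nat.card X := fun c => by
    obtain ⟨g, rfl⟩ := ConjClasses.mk_surjective c
    exact (KSG.card_carrier_eq_index g).dvd.trans (index_dvd_card _)
  have h1 : f (ConjClasses.mk 1) = 1 := by
    rw [show f (ConjClasses.mk 1) = _ from KSG.card_carrier_eq_index 1, index_eq_one, eq_top_iff]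
    exact fun g _ => mem_centralizer_singleton_iff.2 (by simp)
  have h2 : 1 + ∑ c ∈ Finset.univ.erase (ConjClasses.mk 1), f c = Nat.card X := by
    rw [← h1, Finset.add_sum_erase _ _ (Finset.mem_univ _), Nat.card_eq_fintype_card,
      ← sum_conjClasses_card_eq_card]
    exact Finset.sum_congr rfl fun c _ => by simp [f]
  have h3 : (Finset.univ.erase (ConjClasses.mk (1 : X))).card + 1 = Nat.card (ConjClasses X) := by
    rw [Finset.card_erase_add_one (Finset.mem_univ _), Finset.card_univ, Nat.card_eq_fintype_card]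
  generalize Finset.univ.erase (ConjClasses.mk (1 : X)) = s at h2 h3
  rcases (by omega : s.card = 0 ∨ s.card = 1 ∨ s.card = 2 ∨ s.card = 3 ∨ 4 ≤ s.card) with
    h | h | h | h | h
  · rw [Finset.card_eq_zero.1 h, Finset.sum_empty] at h2
    omega
  · obtain ⟨a, rfl⟩ := Finset.card_eq_one.1 h
    rw [Finset.sum_singleton] at h2
    have := Low.egypt1 (hf a) h2
    omega
  · obtain ⟨a, b, hab, rfl⟩ := Finset.card_eq_two.1 h
    rw [Finset.sum_pair hab] at h2
    have := Low.egypt2 (hf a) (hf b) h2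
    omega
  · obtain ⟨a, b, c, hab, hac, hbc, rfl⟩ := Finset.card_eq_three.1 h
    rw [Finset.sum_insert (by simp [hab, hac]), Finset.sum_pair hbc, ← add_assoc (f a)] at h2
    have := Low.egypt3 (hf a) (hf b) (hf c) h2
    omega
  · omega

/-- `k(G) ≥ k(G ⧸ C) + #(classes inside V \ 1)`, and these classes have at most `|G : C|` elements.
Proof: `c` = number of classes `mk v`, `v ∈ V \ 1`.  `ConjClasses.map (mk' C)` is onto and sends these
classes and `mk 1` to `mk 1`, so it is onto from the complement of the `c` classes.  `V \ 1` is covered by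
the `c` classes, each of size `(centralizer {v}).index ≤ C.index` (`KSG.card_carrier_eq_index`). -/
theorem k_lower {G : Type*} [Group G] [Finite G] (V C : Subgroup G) [V.Normal] [C.Normal]
    (hVC : V ≤ C) (hC : C ≤ centralizer (V : Set G)) :
    ∃ c : ℕ, Nat.card (ConjClasses (G ⧸ C)) + c ≤ Nat.card (ConjClasses G) ∧
      Nat.card V - 1 ≤ c * C.index := by
  classical
  have := Fintype.ofFinite G
  have := Fintype.ofFinite (ConjClasses G)
  let s : Finset G := (Finset.univ.filter (· ∈ V)).erase 1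
  have hs : ∀ v, v ∈ s ↔ v ≠ 1 ∧ v ∈ V := fun v => by simp [s]
  refine ⟨(s.image ConjClasses.mk).card, ?_, ?_⟩
  · rw [Nat.card_eq_fintype_card (α := ConjClasses G), ← Finset.card_compl_add_card,
      Nat.add_le_add_iff_right, ← Nat.card_eq_finsetCard]
    refine Nat.card_le_card_of_surjective
      (fun c => ConjClasses.map (QuotientGroup.mk' C) c.1) fun q => ?_
    obtain ⟨q, rfl⟩ := ConjClasses.mk_surjective q
    obtain ⟨g, rfl⟩ := QuotientGroup.mk'_surjective C q
    by_cases h : ConjClasses.mk g ∈ s.image ConjClasses.mk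
    · obtain ⟨v, hv, h1⟩ := Finset.mem_image.1 h
      obtain ⟨u, rfl⟩ := isConj_iff.1 (ConjClasses.mk_eq_mk_iff_isConj.1 h1)
      refine ⟨⟨ConjClasses.mk 1, Finset.mem_compl.2 fun h2 => ?_⟩, ?_⟩
      · obtain ⟨w, hw, h3⟩ := Finset.mem_image.1 h2
        exact ((hs w).1 hw).1 (isConj_one_left.1 (ConjClasses.mk_eq_mk_iff_isConj.1 h3))
      · change ConjClasses.mk (QuotientGroup.mk' C 1) = _
        rw [map_one, eq_comm, QuotientGroup.mk'_apply, (QuotientGroup.eq_one_iff _).2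
          (‹C.Normal›.conj_mem v (hVC ((hs v).1 hv).2) u)]
    · exact ⟨⟨ConjClasses.mk g, Finset.mem_compl.2 h⟩, rfl⟩
  · have h1 : Nat.card V - 1 = s.card := by
      rw [Finset.card_erase_of_mem (by simp), Nat.card_eq_fintype_card, Fintype.card_subtype]
    rw [h1, mul_comm]
    refine Finset.card_le_mul_card_image s _ fun c hc => ?_
    obtain ⟨v, hv, rfl⟩ := Finset.mem_image.1 hc
    refine le_trans ?_ (index_antitone (H := C) (K := centralizer ({v} : Set G)) fun g hg =>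
      mem_centralizer_singleton_iff.2 (hC hg v ((hs v).1 hv).2).symm)
    rw [← KSG.card_carrier_eq_index, Nat.card_coe_set_eq, ← Set.ncard_coe_finset]
    exact Set.ncard_le_ncard fun x hx =>
      ConjClasses.mem_carrier_iff_mk_eq.2 (Finset.mem_filter.1 hx).2

/-- Commuting probability of a group with a central subgroup of index `i`: at least `(3i - 2)/i²`.
Proof: `KSG.card_conjClasses_mul_card_eq_sum`; `|C(y)| = |X|` for `y ∈ Z`, and `|C(y)| ≥ 2|Z|` for
`y ∉ Z` (`Z < C(y)`); divide by `|Z|` using `|X| = |Z| * i`. -/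
theorem k_central {X : Type*} [Group X] [Finite X] (Z : Subgroup X) (hZ : Z ≤ center X) :
    (3 * Z.index - 2) * Nat.card X ≤ Z.index ^ 2 * Nat.card (ConjClasses X) := by
  classical
  have := Fintype.ofFinite X
  have h1 := KSG.card_conjClasses_mul_card_eq_sum (G := X)
  rw [← Finset.sum_filter_add_sum_filter_not _ (· ∈ Z)] at h1
  have e1 : (Finset.univ.filter (· ∈ Z)).card = Nat.card Z := by
    rw [Nat.card_eq_fintype_card, Fintype.card_subtype]
  have e2 := Finset.card_filter_add_card_filter_not (s := Finset.univ) (· ∈ Z)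
  have h2 := Finset.card_nsmul_le_sum (Finset.univ.filter (· ∈ Z))
    (fun g : X => Nat.card (centralizer ({g} : Set X))) (Nat.card X) fun x hx => by
      rw [show centralizer ({x} : Set X) = ⊤ from eq_top_iff.2 fun g _ =>
        mem_centralizer_singleton_iff.2 (mem_center_iff.1 (hZ (Finset.mem_filter.1 hx).2) g),
        card_top]
  have h3 := Finset.card_nsmul_le_sum (Finset.univ.filter (· ∉ Z))
    (fun g : X => Nat.card (centralizer ({g} : Set X))) (2 * Nat.card Z) fun x hx => by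
      have h4 : Z ≤ centralizer ({x} : Set X) := fun g hg =>
        mem_centralizer_singleton_iff.2 (mem_center_iff.1 (hZ hg) x).symm
      obtain ⟨r, hr⟩ := card_dvd_of_le h4
      have h5 : r ≠ 1 := by
        rintro rfl
        exact (Finset.mem_filter.1 hx).2 ((eq_of_le_of_card_ge h4 (by omega)).ge
          (mem_centralizer_singleton_iff.2 rfl))
      have h6 : r ≠ 0 := by
        rintro rfl
        exact Nat.card_pos.ne' hr
      rw [hr, mul_comm]
      exact Nat.mul_le_mul_left _ (by omega)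
  rw [Finset.card_univ, ← Nat.card_eq_fintype_card, e1] at e2
  rw [e1, smul_eq_mul] at h2
  rw [smul_eq_mul] at h3
  have h4 := Z.card_mul_index
  obtain ⟨i, hi⟩ := Nat.exists_eq_add_one_of_ne_zero (index_ne_zero_of_finite (H := Z))
  have hz : 0 < Nat.card Z := Nat.card_pos
  have h5 := h1.symm ▸ Nat.add_le_add h2 h3
  rw [hi] at h4 ⊢
  rw [show (Finset.univ.filter (· ∉ Z)).card = Nat.card Z * i by rw [mul_add] at h4; omega] at h5
  rw [← h4] at h5 ⊢
  rw [show 3 * (i + 1) - 2 = 3 * i + 1 by omega]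
  refine Nat.le_of_mul_le_mul_left ?_ hz
  have h6 := Nat.mul_le_mul_left (i + 1) h5
  nlinarith

/-- A central extension of `S₄` has commuting probability at least `1/6`.
Proof: `card_comm_eq_card_conjClasses_mul_card`.  Let `R` be the image in `S₄ × S₄` of
`(τ, i, j) ↦ (τ ^ i, τ ^ j)`, `i, j < 4`; `R.card = 96` by `decide +kernel`.  If `(π y, π y') ∈ R` then
`y ∈ t ^ i * ker`, `y' ∈ t ^ j * ker` for a lift `t` of `τ`, so `y`, `y'` commute; there are
`96 * |ker|²` such pairs and `|X| = 24 * |ker|`. -/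
theorem k_S4 {X : Type*} [Group X] [Finite X] (π : X →* Equiv.Perm (Fin 4))
    (hπ : Function.Surjective π) (hZ : π.ker ≤ center X) :
    Nat.card X ≤ 6 * Nat.card (ConjClasses X) := by
  classical
  let R : Finset (Equiv.Perm (Fin 4) × Equiv.Perm (Fin 4)) :=
    Finset.univ.filter fun p => ∃ j : Fin 4, p.2 = p.1 ^ (j : ℕ) ∨ p.1 = p.2 ^ (j : ℕ)
  have hR : R.card = 96 := by decide +kernel
  have hc : ∀ (y y' : X) (j : ℕ), π y' = π y ^ j → Commute y y' := fun y y' j h => by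
    have h1 : (y ^ j)⁻¹ * y' ∈ π.ker := by
      rw [MonoidHom.mem_ker, map_mul, map_inv, map_pow, h, inv_mul_cancel]
    rw [← mul_inv_cancel_left (y ^ j) y']
    exact ((Commute.refl y).pow_right j).mul_right (mem_center_iff.1 (hZ h1) y)
  obtain ⟨σ, hσ⟩ := hπ.hasRightInverse
  have hk : ∀ (a : Equiv.Perm (Fin 4)) (u : π.ker), π (σ a * u) = a := fun a u => by
    rw [map_mul, hσ, MonoidHom.mem_ker.1 u.2, mul_one]
  let F : R × π.ker × π.ker → {p : X × X // Commute p.1 p.2} := fun q =>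
    ⟨(σ q.1.1.1 * q.2.1, σ q.1.1.2 * q.2.2), by
      obtain ⟨j, h | h⟩ := (Finset.mem_filter.1 q.1.2).2
      · exact hc _ _ j (by rw [hk, hk, h])
      · exact (hc _ _ j (by rw [hk, hk, ← h])).symm⟩
  have hF : Function.Injective F := by
    rintro ⟨⟨⟨a, b⟩, h⟩, u, v⟩ ⟨⟨⟨a', b'⟩, h'⟩, u', v'⟩ e
    have e1 : σ a * u = σ a' * u' := congrArg (fun p => p.1.1) e
    have e2 : σ b * v = σ b' * v' := congrArg (fun p => p.1.2) e
    obtain rfl : a = a' := by rw [← hk a u, e1, hk]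
    obtain rfl : b = b' := by rw [← hk b v, e2, hk]
    rw [Subtype.ext (mul_left_cancel e1), Subtype.ext (mul_left_cancel e2)]
  have h1 := Nat.card_le_card_of_injective F hF
  have h2 := π.ker.card_mul_index
  rw [index_ker, MonoidHom.range_eq_top.2 hπ, card_top, Nat.card_perm, Nat.card_fin,
    show Nat.factorial 4 = 24 from rfl] at h2
  rw [card_comm_eq_card_conjClasses_mul_card, Nat.card_prod, Nat.card_prod, Nat.card_eq_finsetCard,
    hR, ← h2] at h1
  rw [← h2]
  refine Nat.le_of_mul_le_mul_left ?_ (Nat.card_pos (α := π.ker))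
  nlinarith

/-- Numerics for S4190.
Proof: put `L = logb 2 p ≥ 1` (`2 ^ a ≤ p ⇒ a ≤ L`).  First case: `p ≤ 3 k ≤ 3 L k`.  Second case:
if `p ≤ 2048` use `p² ≤ 36 a² (p - 1) ≤ (3 a k)²` with `a = 1` for `p < 32`, `a = 5` for `p < 512`,
`a = 9` otherwise.  If `e ≤ 3 L` use `p ≤ k e`.  Otherwise `p ^ 3 < 2 ^ e ≤ (k e)²`, `L ≥ 11`, and
`e ^ 6 ≤ 6 ^ 6 * 2 ^ e` (`e < 6 (e / 6 + 1) ≤ 6 * 2 ^ (e / 6)`) gives
`p ^ 6 e ^ 6 ≤ 2 ^ (2 e) 6 ^ 6 2 ^ e ≤ (6 k) ^ 6 e ^ 6`, so `p ≤ 6 k`. -/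
theorem num4190 {p k e : ℕ} (hp : 2 ≤ p) (h : 49 * p ≤ 60 * k ∨
    (4 * (p - 1) ≤ k ^ 2 ∧ p ≤ k * e ∧ (2048 < p → 2 ^ e ≤ (k * e) ^ 2))) :
    (p : ℝ) / (3 * Real.logb 2 p) ≤ k := by
  have hp0 : (0 : ℝ) < p := by positivity
  have hL : ∀ a n : ℕ, 2 ^ a ≤ p ^ n → (a : ℝ) ≤ n * Real.logb 2 p := fun a n h => by
    rw [← Real.logb_pow, Real.le_logb_iff_rpow_le one_lt_two (by positivity), Real.rpow_natCast]
    exact_mod_cast h
  have h1 : (1 : ℝ) ≤ Real.logb 2 p := by simpa using hL 1 1 (by simpa using hp)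
  rw [div_le_iff₀ (by positivity)]
  have key : ∀ a n : ℕ, 2 ^ a ≤ p ^ n → n ≠ 0 → n * p ≤ 3 * a * k →
      (p : ℝ) ≤ k * (3 * Real.logb 2 p) := fun a n h1 h0 h2 => by
    have h3 : (n : ℝ) * p ≤ 3 * a * k := by exact_mod_cast h2
    have h4 := mul_le_mul_of_nonneg_right (hL a n h1) (by positivity : (0 : ℝ) ≤ 3 * k)
    refine le_of_mul_le_mul_left ?_ (by positivity : (0 : ℝ) < n)
    nlinarith
  rcases h with h | ⟨h2, h3, h4⟩
  · exact key 1 1 (by simpa using hp) one_ne_zero (by omega)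
  have h5 : ∀ a : ℕ, 2 ^ a ≤ p → p ≤ 36 * a ^ 2 - 2 → (p : ℝ) ≤ k * (3 * Real.logb 2 p) :=
    fun a ha hb => key a 1 (by simpa using ha) one_ne_zero (by
      obtain ⟨q, rfl⟩ : ∃ q, p = q + 1 := ⟨p - 1, by omega⟩
      rw [Nat.add_sub_cancel] at h2
      have h6 : q + 3 ≤ 36 * a ^ 2 := by omega
      rw [one_mul]
      refine (Nat.pow_le_pow_iff_left two_ne_zero).1 ?_
      have h7 := Nat.mul_le_mul_left (9 * a ^ 2) h2
      have h8 := Nat.mul_le_mul_left q h6
      nlinarith)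
  by_cases c1 : p < 32
  · exact h5 1 (by omega) (by omega)
  by_cases c2 : p < 512
  · exact h5 5 (by omega) (by omega)
  by_cases c3 : p ≤ 2048
  · exact h5 9 (by omega) (by omega)
  by_cases c4 : 2 ^ e ≤ p ^ 3
  · exact key e 3 c4 (by omega) (by nlinarith)
  have h6 := h4 (by omega)
  have h7 : e ^ 6 ≤ 6 ^ 6 * 2 ^ e := by
    have h8 : e / 6 < 2 ^ (e / 6) := Nat.lt_two_pow_self
    calc e ^ 6 ≤ (6 * 2 ^ (e / 6)) ^ 6 := Nat.pow_le_pow_left (by omega) 6
      _ = 6 ^ 6 * 2 ^ (e / 6 * 6) := by rw [mul_pow, ← pow_mul]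
      _ ≤ _ := Nat.mul_le_mul_left _ (Nat.pow_le_pow_right two_pos (Nat.div_mul_le_self e 6))
  have he : 0 < e := Nat.pos_of_ne_zero (by rintro rfl; omega)
  refine key 2 1 (by rw [pow_one]; omega) one_ne_zero ?_
  rw [one_mul]
  refine (Nat.pow_le_pow_iff_left (by norm_num : 6 ≠ 0)).1
    (Nat.le_of_mul_le_mul_right ?_ (pow_pos he 6))
  calc p ^ 6 * e ^ 6 = (p ^ 3) ^ 2 * e ^ 6 := by ring
    _ ≤ (2 ^ e) ^ 2 * (6 ^ 6 * 2 ^ e) := Nat.mul_le_mul (Nat.pow_le_pow_left (by omega) 2) h7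
    _ = 6 ^ 6 * (2 ^ e) ^ 3 := by ring
    _ ≤ 6 ^ 6 * ((k * e) ^ 2) ^ 3 := Nat.mul_le_mul_left _ (Nat.pow_le_pow_left h6 3)
    _ = _ := by ring

end Cfsg.Agent.KoRo
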