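import Cfsg.Agent.KoRo.Ord
import Cfsg.Agent.KoRo.Low
import Cfsg.Agent.S1012

/-!
# Commuting probability of irreducible solvable linear groups
-/

set_option autoImplicit false
set_option linter.style.haveILetI false
set_option linter.unusedSectionVars false
set_option synthInstance.maxSize 1024
open scoped commutatorElement

namespace Cfsg.Agent.KoRo
open Subgroup SolvLin MulAction

universe u v

theorem imprim_core {G V : Type*} [Group G] [AddCommGroup V] [DistribMulAction G V] [Finite G]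
    (I : Imprim G V) (hirr : Irr G V) : letI := subAct I.e.range I.inv
    ((trv I.H I.e.range).map I.H.subtype).normalCore ≤ trv G V := by
  letI := subAct I.e.range I.inv
  refine fun g hg => imprim_triv I hirr fun x u hu => ?_
  obtain ⟨y, hy, e⟩ := hg x⁻¹
  rw [inv_inv] at e
  rw [← e]
  exact congrArg Subtype.val (mem_trv.1 hy ⟨u, hu⟩)

theorem index_trv_le {G Γ V : Type*} [Group G] [Group Γ] [Finite Γ] [MulAction G V] [MulAction Γ V]
    (φ : G →* Γ) (hφ : ∀ g (v : V), φ g • v = g • v) (hf : ∀ g : Γ, (∀ v : V, g • v = v) → g = 1) :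
    trv G V = φ.ker := by
  ext g
  rw [mem_trv, MonoidHom.mem_ker]
  exact ⟨fun h => hf _ fun v => (hφ g v).trans (h v), fun h v => by rw [← hφ, h, one_smul]⟩

theorem card_s {K V Γ : Type*} [Field K] [AddCommGroup V] [Module K V] [Group Γ]
    [DistribMulAction Γ V] (S : Setup K V Γ) : Nat.card S.s.range = Nat.card K - 1 := by
  rw [← Nat.card_congr (MonoidHom.ofInjective S.s_inj).toEquiv, Nat.card_units]

theorem s_le_lin {K V Γ : Type*} [Field K] [AddCommGroup V] [Module K V] [Group Γ]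
    [DistribMulAction Γ V] (S : Setup K V Γ) : S.s.range ≤ lin K V Γ := by
  rintro _ ⟨c, rfl⟩ d v
  rw [S.s_smul, S.s_smul, smul_comm]

theorem ob_step {k n : ℕ} (hk : k ≤ 7) (c : ℕ → ℕ)
    (hc : ∀ j, 1 ≤ j → j * 2 ≤ k → OB.{u, v} (2 ^ j) (c j))
    (h1 : ∀ j ≤ k, ∀ t ≤ k, 1 ≤ j → 2 ≤ t → j * t ≤ k → c j ^ t * t.factorial ≤ n)
    (h3 : ∀ f ≤ k, ∀ e ≤ k, f ∣ k → f * e ≤ k → (2 ≤ e → ¬ e.Coprime (2 ^ f - 1)) →
      (2 ^ f - 1) * β e * f ≤ n) : OB.{u, v} (2 ^ k) n := by
  intro G V _ _ _ _ _ hG hirr hV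
  rcases imprim_or_setup hG hirr with ⟨⟨I⟩⟩ | ⟨K, _, _, _, Γ, _, _, _, S, φ, hφ, -⟩
  · letI := subAct I.e.range I.inv
    obtain ⟨j, hj, a1, a2, a3⟩ := imprim_card I Nat.prime_two hV
    have a4 := hc j a1 ((Nat.mul_le_mul_left j a3).trans a2) I.H I.e.range inferInstance
      (I.irr hirr) hj
    rw [← normalCore_eq_self (trv _ _)] at a4
    exact ((index_antitone (imprim_core I hirr)).trans (index_coset a4 (index_core_le I.H))).trans
      (h1 j (by nlinarith) _ (by nlinarith) a1 a3 a2)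
  · haveI := hirr.1
    obtain ⟨f, hK, a1, a2, a3⟩ := setup_card (K := K) Nat.prime_two hV
    have b1 : f ≤ k := by nlinarith
    have b2 : ∀ e ≤ Module.finrank K V, e ≤ k ∧ f * e ≤ k := fun e he =>
      ⟨by nlinarith, a3 ▸ Nat.mul_le_mul_left f he⟩
    obtain ⟨-, e0, e, e1, e2, e3, e4, -⟩ := qp2 S Nat.prime_two hK rfl fun e h1 h2 h3 => by
      obtain rfl : f = 1 := by nlinarith [(b2 e h2).2]
      exact absurd (by simp) h3
    rw [index_trv_le φ hφ S.faithful, index_ker]
    refine (card_le_card_group _).trans (le_trans ?_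
      (h3 f b1 e (b2 e e2).1 ⟨_, a3.symm⟩ (b2 e e2).2 e3))
    rw [← S.s.range.card_mul_index, ← relIndex_mul_index (s_le_lin S), card_s, hK, mul_assoc]
    exact Nat.mul_le_mul_left _ (Nat.mul_le_mul e4 e0)

theorem ob2 : OB.{u, v} (2 ^ 1) 1 := ob_prime Nat.prime_two

theorem ob4 : OB.{u, v} (2 ^ 2) 6 :=
  fun _ _ _ _ _ _ _ _ _ h => Nat.le_of_dvd (by decide) (index_four h)

theorem ob8 : OB.{u, v} (2 ^ 3) 21 := by
  refine ob_step (by decide) (fun _ => 1) (fun j h1 h2 => ?_) (by decide +kernel) (by decide +kernel)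
  obtain rfl : j = 1 := by omega
  exact ob2

theorem ob_two {k n : ℕ} (hk : k ≤ 7)
    (h1 : ∀ j ≤ k, ∀ t ≤ k, 1 ≤ j → 2 ≤ t → j * t ≤ k → [1, 1, 6, 21].getD j 0 ^ t * t.factorial ≤ n)
    (h3 : ∀ f ≤ k, ∀ e ≤ k, f ∣ k → f * e ≤ k → (2 ≤ e → ¬ e.Coprime (2 ^ f - 1)) →
      (2 ^ f - 1) * β e * f ≤ n) : OB.{u, v} (2 ^ k) n := by
  refine ob_step hk (fun j => [1, 1, 6, 21].getD j 0) (fun j h1 h2 => ?_) h1 h3
  have : j ≤ 3 := by omega
  interval_cases j
  exacts [ob2, ob4, ob8]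

theorem pow_eight_lt {e : ℕ} (he : 9 ≤ e) : e ^ 8 ≤ 9 ^ (e - 1) := by
  induction e, he using Nat.le_induction with
  | base => decide
  | succ e h ih =>
    have h1 : (9 * (e + 1)) ^ 8 ≤ (10 * e) ^ 8 := Nat.pow_le_pow_left (by omega) _
    rw [show e + 1 - 1 = e - 1 + 1 by omega, pow_succ 9]
    rw [mul_pow, mul_pow] at h1
    norm_num at h1 ih ⊢
    omega

theorem ob_β {e : ℕ} (he : 4 ≤ e) : ∃ c, OB.{u, v} (e ^ 2) c ∧ e ^ 2 * c ≤ β e := by
  rcases le_or_gt 9 e with h9 | h9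
  · refine ⟨_, ob_cube _, ?_⟩
    have h1 := pow_eight_lt h9
    have h2 : β e = 3 * 9 ^ (e - 1) - 1 := by
      unfold β
      split_ifs <;> omega
    have h3 : 0 < 9 ^ (e - 1) := by positivity
    rw [← pow_succ', ← pow_mul, show 2 * (3 + 1) = 8 from rfl]
    omega
  interval_cases e
  · exact ⟨72, ob_two (k := 4) (by decide) (by decide +kernel) (by decide +kernel), by decide⟩
  · exact ⟨_, ob_prime_sq (by norm_num), by decide⟩
  · exact ⟨0, ob_of_not (by decide +kernel), by decide⟩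
  · exact ⟨_, ob_prime_sq (by norm_num), by decide⟩
  · exact ⟨1296, ob_two (k := 6) (by decide) (by decide +kernel) (by decide +kernel), by decide⟩

theorem OB.core {t n : ℕ} (h : OB.{u, u} t n) {G : Type u} [Group G] [Finite G]
    (hG : Group.IsSolvable G) {H : Subgroup G} (hH : IsCoatom H) (ht : H.index = t) :
    H.normalCore.index ≤ t * n := by
  obtain ⟨N, _, _, _, hirr, e, he⟩ := aff_model hG hH
  have hc : Nat.card N = t := by rw [← ht, ← Nat.card_congr e]; rfl
  choose a ha using he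
  refine (index_antitone (inf_le_left (b := trv G N))).trans ?_
  rw [← relIndex_mul_index (inf_le_right (a := H.normalCore)), inf_relIndex_right]
  refine Nat.mul_le_mul ((relIndex_le_card _ _ (fun g => a g) fun x y hxy => ?_).trans hc.le)
    (h G N hG hirr hc)
  rw [normalCore_eq_ker, MonoidHom.mem_ker]
  ext ω
  change ((x : G)⁻¹ * y) • ω = ω
  rw [mul_smul, inv_smul_eq_iff]
  apply e.injective
  rw [ha, ha, mem_trv.1 x.2, mem_trv.1 y.2, hxy]

/-- orders of primitive solvable permutation groups -/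
theorem dixon_ord {G : Type u} [Group G] [Finite G] (hG : Group.IsSolvable G) {H : Subgroup G}
    (hH : IsCoatom H) : H.normalCore.index ≤ 3 ^ (H.index - 1) := by
  have h1 := index_core_le H
  have h2 : ∀ n, OB.{u, u} H.index n → H.normalCore.index ≤ H.index * n :=
    fun n h => h.core hG hH rfl
  generalize H.index = t at h1 h2
  rcases le_or_gt 9 t with h9 | h9
  · exact (h2 _ (ob_cube t)).trans (pow_four_le h9)
  interval_cases t
  iterate 5 exact h1.trans (by decide)
  · exact (h2 _ (ob_prime (by norm_num))).trans (by decide)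
  · exact (h2 0 (ob_of_not (by decide))).trans (by decide)
  · exact (h2 _ (ob_prime (by norm_num))).trans (by decide)
  · exact (h2 _ ob8).trans (by decide)

/-- inverse commuting probability of the linear part -/
def γ (e : ℕ) : ℕ := if e = 3 then 73 else if e = 4 then 385 else 9 ^ (e - 1)

theorem γ_le (e : ℕ) : γ e ≤ 9 ^ (e - 1) := by
  unfold γ
  split_ifs <;> first | exact le_rfl | (subst_vars; decide)

theorem ck_of_central {X : Type*} [Group X] [Finite X] (Z : Subgroup X) (hZ : Z ≤ center X)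
    {B n : ℕ} (hB : Z.index ≤ B) (hn : 1 ≤ n) (h : B ^ 2 + 2 * n ≤ 3 * n * B) : CK X n := by
  have h1 := k_central Z hZ
  have h0 : 1 ≤ Z.index := Nat.pos_of_ne_zero FiniteIndex.index_ne_zero
  generalize Z.index = i at h1 hB h0
  obtain ⟨i, rfl⟩ := Nat.exists_eq_add_of_le' h0
  rw [show 3 * (i + 1) - 2 = 3 * i + 1 by omega] at h1
  refine Nat.le_of_mul_le_mul_left (h1.trans ?_) (by omega : 0 < 3 * i + 1)
  rw [← mul_assoc]
  refine Nat.mul_le_mul_right _ ?_
  obtain ⟨r, rfl⟩ := Nat.exists_eq_add_of_le hB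
  obtain ⟨n, rfl⟩ := Nat.exists_eq_add_of_le' hn
  rcases Nat.eq_zero_or_pos (i + r) with h2 | h2
  · obtain rfl : i = 0 := by omega
    omega
  refine Nat.le_of_mul_le_mul_left ?_ h2
  nlinarith [Nat.mul_le_mul_left i h, Nat.zero_le (i * r * (i + r)), Nat.zero_le (r * n)]

theorem γ_spec (e : ℕ) : 1 ≤ γ e ∧ β e ^ 2 + 2 * γ e ≤ 3 * γ e * β e := by
  by_cases h : e ≤ 4
  · interval_cases e <;> decide
  have h1 : β e = 3 * 9 ^ (e - 1) - 1 := by
    unfold β
    split_ifs <;> omega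
  have h2 : γ e = 9 ^ (e - 1) := by
    unfold γ
    split_ifs <;> omega
  have h3 : 0 < 9 ^ (e - 1) := by positivity
  rw [h1, h2]
  obtain ⟨N, hN⟩ := Nat.exists_eq_add_of_le' h3
  rw [hN, show 3 * (N + Nat.succ 0) - 1 = 3 * N + 2 by omega]
  exact ⟨by omega, by simp only [Nat.succ_eq_add_one]; nlinarith⟩

theorem ck_lin {K V Γ : Type*} [Field K] [AddCommGroup V] [Module K V] [Group Γ] [Finite Γ]
    [DistribMulAction Γ V] (S : Setup K V Γ) {L : Subgroup Γ} (hL : L ≤ lin K V Γ) :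
    S.s.range.subgroupOf L ≤ center L := by
  rintro x ⟨c, hc⟩
  refine mem_center_iff.2 fun g => Subtype.ext (inv_mul_eq_one.1 (S.faithful _ fun v => ?_))
  rw [mul_smul, inv_smul_eq_iff, coe_mul, coe_mul, mul_smul, mul_smul, show (x : Γ) = S.s c from hc.symm,
    S.s_smul, S.s_smul, hL g.2]

theorem rc_qp {G K V Γ : Type*} [Group G] [Finite G] [Field K] [AddCommGroup V] [Module K V]
    [Group Γ] [Finite Γ] [DistribMulAction Γ V] [DistribMulAction G V] (S : Setup K V Γ)
    (φ : G →* Γ) (hφ : ∀ g (v : V), φ g • v = g • v) {e f : ℕ}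
    (he : S.s.range.relIndex (lin K V Γ) ≤ β e) (hf : (lin K V G).index ≤ f) :
    RC (trv G V) (γ e * f ^ 2) := by
  refine RC.of_index (RC.of_hom (ck_of_central _ (ck_lin S le_rfl) he (γ_spec e).1 (γ_spec e).2)
    ((φ.comp (lin K V G).subtype).codRestrict _ fun g c v => ?_) fun g hg => mem_trv.2 fun v => ?_) hf
  · change φ g • c • v = c • φ g • v
    rw [hφ, hφ, g.2]
  · change (g : G) • v = v
    rw [← hφ, show φ g = 1 from congrArg Subtype.val hg, one_smul]

theorem index_lin_le {G K V Γ : Type*} [Group G] [Field K] [AddCommGroup V] [Module K V]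
    [Group Γ] [Finite Γ] [DistribMulAction Γ V] [DistribMulAction G V]
    (φ : G →* Γ) (hφ : ∀ g (v : V), φ g • v = g • v) : (lin K V G).index ≤ (lin K V Γ).index := by
  have : lin K V G = (lin K V Γ).comap φ := by
    ext g
    exact forall₂_congr fun c v => by rw [hφ, hφ]
  rw [this, index_comap]
  exact (relIndex_le_of_le_right le_top FiniteIndex.index_ne_zero).trans_eq (relIndex_top_right _)

/-- commuting probability for solvable groups acting irreducibly on a module of order `w` -/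
def CB (w n : ℕ) : Prop :=
  ∀ (X : Type u) (W : Type v) [Group X] [Finite X] [AddCommGroup W] [Finite W]
    [DistribMulAction X W], Group.IsSolvable X → Irr X W → Nat.card W = w → RC (trv X W) n

theorem cb_step {p k n : ℕ} (hp : p.Prime) (c : ℕ → ℕ)
    (hc : ∀ j, 1 ≤ j → j * 2 ≤ k → CB.{u, v} (p ^ j) (c j))
    (h1 : ∀ j ≤ k, ∀ t ≤ k, 1 ≤ j → 2 ≤ t → j * t ≤ k →
      c j ^ t * min t.factorial (3 ^ (t - 1)) ^ 2 ≤ n)
    (h3 : ∀ f ≤ k, ∀ e ≤ k, 1 ≤ f → 1 ≤ e → f * e ≤ k → (2 ≤ e → ¬ e.Coprime (p ^ f - 1)) →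
      γ e * f ^ 2 ≤ n) : CB.{u, v} (p ^ k) n := by
  intro G V _ _ _ _ _ hG hirr hV
  rcases imprim_or_setup hG hirr with ⟨⟨I⟩⟩ | ⟨K, _, _, _, Γ, _, _, _, S, φ, hφ, -⟩
  · letI := subAct I.e.range I.inv
    obtain ⟨j, hj, a1, a2, a3⟩ := imprim_card I hp hV
    exact (((hc j a1 ((Nat.mul_le_mul_left j a3).trans a2) I.H I.e.range inferInstance
      (I.irr hirr) hj).coset (le_min (index_core_le I.H) (dixon_ord hG I.coatom))).core
      (imprim_core I hirr)).le (h1 j (by nlinarith) _ (by nlinarith) a1 a3 a2)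
  · haveI := hirr.1
    obtain ⟨f, hK, a1, a2, a3⟩ := setup_card (K := K) hp hV
    obtain ⟨-, e0, e, e1, e2, e3, e4, -⟩ := qp2 S hp hK rfl fun e h1 _ _ => ob_β h1
    exact (rc_qp S φ hφ e4 ((index_lin_le φ hφ).trans e0)).le
      (h3 f (by nlinarith) e (by nlinarith) a1 e1 (a3 ▸ Nat.mul_le_mul_left f e2) e3)

theorem sq_le_nine {f : ℕ} : f ^ 2 ≤ 9 ^ (f - 1) := by
  have := Nat.lt_pow_self (n := f - 1) (show 1 < 3 by decide)
  rw [show 9 = 3 ^ 2 from rfl, ← pow_mul, mul_comm, pow_mul]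
  exact Nat.pow_le_pow_left (by omega) 2

theorem cb_gen {p : ℕ} (hp : p.Prime) (k : ℕ) : CB.{u, v} (p ^ k) (9 ^ (k - 1)) := by
  induction k using Nat.strong_induction_on with | _ k ih => ?_
  refine cb_step hp (fun j => 9 ^ (j - 1)) (fun j h1 h2 => ih j (by omega))
    (fun j _ t _ h1 h2 h3 => ?_) (fun f _ e _ h1 h2 h3 _ => ?_)
  · refine (Nat.mul_le_mul_left _ (Nat.pow_le_pow_left (min_le_right _ _) 2)).trans ?_
    rw [← pow_mul, ← pow_mul, mul_comm (t - 1), pow_mul 3, show 3 ^ 2 = 9 from rfl, ← pow_add]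
    refine Nat.pow_le_pow_right (by decide) ?_
    obtain ⟨j, rfl⟩ := Nat.exists_eq_add_of_le' h1
    rw [add_mul] at h3
    rw [Nat.add_sub_cancel]
    omega
  · refine (Nat.mul_le_mul (γ_le e) sq_le_nine).trans ?_
    rw [← pow_add]
    refine Nat.pow_le_pow_right (by decide) ?_
    obtain ⟨a, rfl⟩ := Nat.exists_eq_add_of_le' h1
    obtain ⟨b, rfl⟩ := Nat.exists_eq_add_of_le' h2
    have : (a + 1) * (b + 1) = a * b + a + b + 1 := by ring
    omega

theorem cb11 : CB.{u, v} (11 ^ 3) 36 :=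
  cb_step (by norm_num) _ (fun j _ _ => cb_gen (by norm_num) j) (by decide +kernel)
    (by decide +kernel)

theorem cb13 : CB.{u, v} (13 ^ 3) 73 :=
  cb_step (by norm_num) _ (fun j _ _ => cb_gen (by norm_num) j) (by decide +kernel)
    (by decide +kernel)

theorem cb11' : CB.{u, v} (11 ^ 4) 576 :=
  cb_step (by norm_num) _ (fun j _ _ => cb_gen (by norm_num) j) (by decide +kernel)
    (by decide +kernel)

theorem cb_two {G : Type u} {V : Type v} [Group G] [Finite G] [AddCommGroup V] [Finite V]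
    [DistribMulAction G V] (hG : Group.IsSolvable G) (hirr : Irr G V) {p : ℕ} (hp : p.Prime)
    (hV : Nat.card V = p ^ 2) : RC (trv G V) 5 ∨
      ∃ z, z ∣ p - 1 ∧ (trv G V).index = 24 * z ∧ RC (trv G V) 6 := by
  rcases imprim_or_setup hG hirr with ⟨⟨I⟩⟩ | ⟨K, _, _, _, Γ, _, _, _, S, φ, hφ, -⟩
  · letI := subAct I.e.range I.inv
    obtain ⟨j, hj, a1, a2, a3⟩ := imprim_card I hp hV
    obtain rfl : j = 1 := by nlinarith
    refine Or.inl ((((cb_gen hp 1 I.H I.e.range inferInstance (I.irr hirr) hj).coset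
      (index_core_le I.H)).core (imprim_core I hirr)).le ?_)
    rw [show I.H.index = 2 by omega]
    decide
  haveI := hirr.1
  obtain ⟨f, hK, a1, a2, a3⟩ := setup_card (K := K) hp hV
  obtain ⟨-, e0, e, e1, e2, -, e4, e5⟩ := qp2 S hp hK rfl fun e h1 _ _ => ob_β h1
  have h0 := rc_qp S φ hφ e4 ((index_lin_le φ hφ).trans e0)
  rcases e1.eq_or_lt with rfl | he
  · have : f ≤ 2 := by nlinarith
    exact Or.inl (h0.le (by interval_cases f <;> decide))
  obtain rfl : f = 1 := by nlinarith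
  obtain rfl : e = 2 := by omega
  have hl : lin K V Γ = ⊤ := index_eq_one.1
    (le_antisymm e0 (Nat.pos_of_ne_zero FiniteIndex.index_ne_zero))
  obtain ⟨h1, h2⟩ := e5 rfl hl
  haveI := S.normal
  have hk : φ.rangeRestrict.ker ≤ trv G V := by
    rw [MonoidHom.ker_rangeRestrict, index_trv_le φ hφ S.faithful]
  have h3 := relIndex_dvd_index_of_normal S.s.range φ.range
  rcases le_or_gt (S.s.range.relIndex φ.range) 12 with h | h
  · exact Or.inl (RC.of_hom (ck_of_central _ (ck_lin S (hl ▸ le_top)) h (by decide) (by decide)) _ hk)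
  have h4 : ∀ n, n ∣ 24 → 12 < n → n = 24 := fun n hn h => by
    have := Nat.le_of_dvd (by decide) hn
    interval_cases n <;> first | rfl | omega
  have h5 := h4 _ (h3.trans h1) h
  obtain ⟨π⟩ := S1012.result (G := Γ ⧸ S.s.range)
    (h4 _ h1 (h.trans_le (Nat.le_of_dvd (Nat.pos_of_ne_zero FiniteIndex.index_ne_zero) h3)))
    fun g hg => by
      induction g using QuotientGroup.induction_on with | H g => ?_
      rcases h2 g with h | h <;>
        rw [← QuotientGroup.eq_one_iff, QuotientGroup.mk_pow, ← orderOf_dvd_iff_pow_eq_one, hg] at h <;>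
        omega
  refine Or.inr ⟨Nat.card (S.s.range.subgroupOf φ.range), ?_, ?_, RC.of_hom (n := 6)
    (k_S4 (π.toMonoidHom.comp (QuotientGroup.mk' _))
      (π.surjective.comp (QuotientGroup.mk'_surjective _)) fun x hx => ?_) φ
      (index_trv_le φ hφ S.faithful).ge⟩
  · rw [← pow_one p, ← hK, ← card_s S, ← inf_subgroupOf_right,
      Nat.card_congr (subgroupOfEquivOfLe inf_le_right).toEquiv]
    exact card_dvd_of_le inf_le_left
  · rw [index_trv_le φ hφ S.faithful, index_ker, ← (S.s.range.subgroupOf φ.range).card_mul_index,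
      mul_comm, ← h5]
    rfl
  · obtain ⟨c, rfl⟩ := (QuotientGroup.eq_one_iff x).1 (π.injective (hx.trans (map_one π).symm))
    refine mem_center_iff.2 fun g => inv_mul_eq_one.1 (S.faithful _ fun v => ?_)
    rw [mul_smul, inv_smul_eq_iff, mul_smul, mul_smul, S.s_smul, S.s_smul,
      (hl ▸ mem_top g : g ∈ lin K V Γ)]

end Cfsg.Agent.KoRo
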