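import Cfsg.Agent.KoRo.Base
import Cfsg.Agent.S4200

/-!
# Lower bounds for the commuting probability of quotients
-/

set_option autoImplicit false
set_option linter.style.haveILetI false
set_option linter.unusedSectionVars false

namespace Cfsg.Agent.KoRo
open Subgroup

/-- the commuting probability of `X` is at least `1 / n` -/
def CK (X : Type*) [Group X] (n : ℕ) : Prop := Nat.card X ≤ n * Nat.card (ConjClasses X)

/-- the commuting probability of `G ⧸ core N` is at least `1 / n` -/
def RC {G : Type*} [Group G] (N : Subgroup G) (n : ℕ) : Prop := CK (G ⧸ N.normalCore) n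

variable {X Y G : Type*} [Group X] [Group Y] [Group G] {a b c n : ℕ}

theorem CK.le (h : CK X a) (hab : a ≤ b) : CK X b := h.trans (Nat.mul_le_mul_right _ hab)

theorem CK.sub [Finite X] (h : CK X n) (H : Subgroup X) : CK H n := by
  refine Nat.le_of_mul_le_mul_right (c := H.index) ?_ (Nat.pos_of_ne_zero FiniteIndex.index_ne_zero)
  rw [H.card_mul_index, mul_assoc, mul_comm _ H.index]
  exact h.trans (Nat.mul_le_mul_left _ (S4200.result H).2.1)

theorem CK.quot [Finite X] (h : CK X n) (N : Subgroup X) [N.Normal] : CK (X ⧸ N) n := by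
  refine Nat.le_of_mul_le_mul_left (c := Nat.card N) ?_ Nat.card_pos
  refine (N.card_mul_index.le.trans h).trans ?_
  rw [mul_left_comm]
  exact Nat.mul_le_mul_left _ ((S4201.result N).trans
    (Nat.mul_le_mul_right _ (SK.of_card le_rfl).top))

theorem CK.equiv [Finite X] (h : CK X n) (e : X ≃* Y) : CK Y n := by
  haveI := Finite.of_equiv _ e.toEquiv
  exact ((Nat.card_congr e.toEquiv).symm.le.trans h).trans
    (Nat.mul_le_mul_left _ (k_surj e.symm.toMonoidHom e.symm.surjective))

theorem CK.of_surj [Finite X] (h : CK X n) (f : X →* Y) (hf : Function.Surjective f) : CK Y n :=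
  (h.quot f.ker).equiv (QuotientGroup.quotientKerEquivOfSurjective f hf)

theorem CK.of_inj [Finite Y] (h : CK Y n) (f : X →* Y) (hf : Function.Injective f) : CK X n :=
  (h.sub f.range).equiv (MonoidHom.ofInjective hf).symm

theorem CK.of_index [Finite X] {H : Subgroup X} (h : CK H n) (hb : H.index ≤ b) :
    CK X (n * b ^ 2) := by
  have h1 := Nat.mul_le_mul h hb
  rw [H.card_mul_index] at h1
  refine h1.trans ?_
  rw [mul_assoc, mul_assoc, sq, mul_assoc, mul_comm _ b]
  exact Nat.mul_le_mul_left _ (Nat.mul_le_mul_left _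
    ((S4200.result H).1.trans (Nat.mul_le_mul_right _ hb)))

theorem CK.of_comm [Finite X] (h : ∀ x y : X, x * y = y * x) : CK X 1 := by
  rw [CK, one_mul]
  refine Nat.card_le_card_of_injective ConjClasses.mk fun x y hxy => ?_
  obtain ⟨c, hc⟩ := isConj_iff.1 (ConjClasses.mk_eq_mk_iff_isConj.1 hxy)
  rw [← hc, h c, mul_inv_cancel_right]

theorem ck_iff [Finite X] : CK X n ↔ 1 ≤ n * commProb X := by
  have : (0 : ℚ) < Nat.card X := Nat.cast_pos.2 Nat.card_pos
  rw [commProb_def', ← mul_div_assoc, le_div_iff₀ this, one_mul, CK]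
  exact_mod_cast Iff.rfl

theorem CK.prod [Finite X] [Finite Y] (h1 : CK X a) (h2 : CK Y b) : CK (X × Y) (a * b) := by
  rw [ck_iff] at h1 h2 ⊢
  rw [commProb_prod, Nat.cast_mul, mul_mul_mul_comm]
  exact one_le_mul_of_one_le_of_one_le h1 h2

variable [Finite G] {N A B : Subgroup G}

theorem RC.le (h : RC N a) (hab : a ≤ b) : RC N b := CK.le h hab

theorem RC.ck (h : RC N n) (f : G →* Y) (hf : Function.Surjective f) (hk : N.normalCore ≤ f.ker) :
    CK Y n :=
  CK.of_surj h (QuotientGroup.lift _ f hk) (QuotientGroup.lift_surjective_of_surjective _ _ hf hk)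

theorem RC.of_hom [Finite Y] (h : CK Y n) (f : G →* Y) (hf : f.ker ≤ N) : RC N n := by
  refine (h.of_inj _ (QuotientGroup.kerLift_injective f)).of_surj
    (QuotientGroup.map _ _ (MonoidHom.id G) (normal_le_normalCore.2 hf)) fun x => ?_
  induction x using QuotientGroup.induction_on with | H x => exact ⟨x, rfl⟩

theorem RC.quot [N.Normal] (h : RC N n) : CK (G ⧸ N) n :=
  h.ck (QuotientGroup.mk' N) (QuotientGroup.mk'_surjective N)
    (by rw [QuotientGroup.ker_mk']; exact N.normalCore_le)

theorem RC.core (h : RC N n) (hA : N.normalCore ≤ A) : RC A n :=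
  RC.of_hom h (QuotientGroup.mk' _) (by rwa [QuotientGroup.ker_mk'])

theorem RC.mono (h : RC N n) (hA : N ≤ A) : RC A n := h.core (N.normalCore_le.trans hA)

theorem RC.comap {G' : Type*} [Group G'] [Finite G'] (h : RC N n) (φ : G' →* G) :
    RC (N.comap φ) n :=
  RC.of_hom h ((QuotientGroup.mk' _).comp φ) fun x hx =>
    N.normalCore_le ((QuotientGroup.eq_one_iff (φ x)).1 hx)

theorem CK.rc (h : CK G n) : RC N n := RC.of_hom h (MonoidHom.id G) (by simp)

theorem RC.top : RC (⊤ : Subgroup G) 1 :=
  RC.of_hom (CK.of_comm (X := PUnit.{1}) fun _ _ => rfl) 1 le_top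

theorem RC.inf (hA : RC A a) (hB : RC B b) : RC (A ⊓ B) (a * b) :=
  RC.of_hom (CK.prod hA hB) ((QuotientGroup.mk' _).prod (QuotientGroup.mk' _)) fun x hx =>
    ⟨A.normalCore_le ((QuotientGroup.eq_one_iff x).1 (congrArg Prod.fst hx)),
      B.normalCore_le ((QuotientGroup.eq_one_iff x).1 (congrArg Prod.snd hx))⟩

theorem RC.biInf {ι : Type*} (s : Finset ι) (N : ι → Subgroup G) (h : ∀ i, RC (N i) c) :
    RC (⨅ i ∈ s, N i) (c ^ s.card) := by
  classical
  induction s using Finset.induction_on with
  | empty => simpa using RC.top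
  | insert i s hi ih =>
    rw [Finset.iInf_insert, Finset.card_insert_of_notMem hi, pow_succ']
    exact (h i).inf ih

theorem RC.of_index [A.Normal] (hA : RC (A.subgroupOf B) a) (hB : B.index ≤ b) :
    RC A (a * b ^ 2) := by
  let π := QuotientGroup.mk' A
  refine RC.of_hom (CK.of_index (H := B.map π) ?_ ?_) π (QuotientGroup.ker_mk' A).le
  · refine hA.ck (π.subgroupMap B) (π.subgroupMap_surjective B) fun x hx => Subtype.ext ?_
    exact (QuotientGroup.eq_one_iff (x : G)).2 (normalCore_le (A.subgroupOf B) hx)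
  · exact (Nat.le_of_dvd (Nat.pos_of_ne_zero FiniteIndex.index_ne_zero)
      (B.index_map_dvd (QuotientGroup.mk'_surjective A))).trans hB

/-- the maps from the core to the point stabilizer -/
noncomputable def cm (H : Subgroup G) (ω : G ⧸ H) : H.normalCore →* H :=
  ((MulAut.conj ω.out⁻¹).toMonoidHom.comp H.normalCore.subtype).codRestrict H fun x => x.2 _

theorem cm_le {H : Subgroup G} (N : Subgroup H) : ⨅ ω, N.normalCore.comap (cm H ω) ≤
    (N.map H.subtype).normalCore.subgroupOf H.normalCore := by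
  intro x hx g
  simp only [mem_iInf, mem_comap] at hx
  obtain ⟨k, hk⟩ := QuotientGroup.mk_out_eq_mul H g⁻¹
  refine ⟨_, hx (g⁻¹ : G) k, ?_⟩
  simp only [cm, coe_subtype, coe_mul, coe_inv, MonoidHom.codRestrict_apply, MonoidHom.comp_apply,
    MulEquiv.toMonoidHom_eq_coe, MonoidHom.coe_coe, MulAut.conj_apply, hk]
  group

theorem RC.coset {H : Subgroup G} {N : Subgroup H} (hN : RC N c) (hH : H.normalCore.index ≤ b) :
    RC (N.map H.subtype) (c ^ H.index * b ^ 2) := by
  haveI := Fintype.ofFinite (G ⧸ H)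
  have h1 := RC.biInf Finset.univ _ fun ω => (hN.core le_rfl).comap (cm H ω)
  rw [Finset.card_univ, ← Nat.card_eq_fintype_card] at h1
  exact RC.mono (RC.of_index (h1.mono (by simpa using cm_le N)) hH) (normalCore_le _)

theorem index_coset {H : Subgroup G} {N : Subgroup H} (hN : N.normalCore.index ≤ c)
    (hH : H.normalCore.index ≤ b) : (N.map H.subtype).normalCore.index ≤ c ^ H.index * b := by
  haveI := Fintype.ofFinite (G ⧸ H)
  rw [← relIndex_mul_index (normalCore_mono (map_subtype_le N))]
  refine Nat.mul_le_mul ((index_antitone (cm_le N)).trans ((index_iInf_le _).trans ?_)) hH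
  refine (Finset.prod_le_pow_card _ _ c fun ω _ => le_trans ?_ hN).trans_eq
    (by rw [Finset.card_univ, ← Nat.card_eq_fintype_card]; rfl)
  rw [index_comap]
  exact relIndex_le_of_le_right le_top (by simpa using FiniteIndex.index_ne_zero) |>.trans_eq
    (relIndex_top_right _)

theorem index_core_le (H : Subgroup G) : H.normalCore.index ≤ H.index.factorial := by
  classical
  haveI := Fintype.ofFinite (G ⧸ H)
  rw [normalCore_eq_ker, index_ker]
  exact (card_le_card_group _).trans_eq Nat.card_perm

end Cfsg.Agent.KoRo
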