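import Cfsg.Agent.SolvLin.Field

/-!
# The invariant field can be chosen to contain a given central element
-/

set_option autoImplicit false
set_option linter.style.haveILetI false

namespace Cfsg.Agent.KoRo
open SolvLin

universe v

theorem imprim_or_setup' {G : Type*} {V : Type v} [Group G] [Finite G] [AddCommGroup V] [Finite V]
    [DistribMulAction G V] (hG : Group.IsSolvable G) (hirr : Irr G V) {z : G}
    (hz : ∀ (g : G) (v : V), g • z • v = z • g • v) :
    Nonempty (Imprim G V) ∨ ∃ (K : Type v) (_ : Field K) (_ : Finite K) (_ : Module K V)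
      (Γ : Type v) (_ : Group Γ) (_ : Finite Γ) (_ : DistribMulAction Γ V) (_ : Setup K V Γ)
      (f : G →* Γ), (∀ g (v : V), f g • v = g • v) ∧ ∃ ζ : K, ∀ v : V, z • v = ζ • v := by
  classical
  haveI := hirr.1
  have hP0 : InvComm G (Subring.closure {DistribMulAction.toAddMonoidEnd G V z}) := by
    constructor
    · have := Subring.isMulCommutative_closure (s := {DistribMulAction.toAddMonoidEnd G V z}) (by
        rintro _ rfl _ rfl
        rfl)
      exact fun x hx y hy => setLike_mul_comm hx hy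
    · refine fun g x hx => Subring.mem_comap.1 (Subring.closure_le.2 ?_ hx)
      rintro _ rfl
      refine Subring.subset_closure (AddMonoidHom.ext fun v => ?_)
      change g • z • g⁻¹ • v = z • v
      rw [hz, smul_inv_smul]
  obtain ⟨K, hxK, hK, hmax⟩ := Finite.exists_le_maximal (p := InvComm G) hP0
  by_cases hid : ∃ e ∈ K, e * e = e ∧ e ≠ 0 ∧ e ≠ 1
  · obtain ⟨e, he, h1, h2, h3⟩ := hid
    exact Or.inl (hK.imprim hirr he h1 h2 h3)
  right
  push Not at hid
  have hfield : IsField K := by
    refine ⟨⟨0, 1, fun h => ?_⟩, fun x y => Subtype.ext (hK.1 x x.2 y y.2), fun {x} hx => ?_⟩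
    · obtain ⟨v, hv⟩ := exists_ne (0 : V)
      have := DFunLike.congr_fun (congrArg Subtype.val h) v
      exact hv this.symm
    · obtain ⟨m, hm, hmm⟩ := exists_idem_pow (x : AddMonoid.End V)
      have h1 := hid _ (pow_mem x.2 m) hmm (fun h => hx (Subtype.ext (hK.reduced hirr x.2 ⟨m, h⟩)))
      obtain ⟨k, rfl⟩ := Nat.exists_eq_succ_of_ne_zero hm.ne'
      refine ⟨x ^ k, Subtype.ext ?_⟩
      rw [pow_succ'] at h1
      simpa using h1
  letI : Field K := hfield.toField
  let ρ : G →* (AddMonoid.End V)ˣ := (DistribMulAction.toAddMonoidEnd G V).toHomUnits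
  let s : Kˣ →* (AddMonoid.End V)ˣ := Units.map K.subtype.toMonoidHom
  have hsK : ∀ u : (AddMonoid.End V)ˣ, u ∈ s.range ↔ (u : AddMonoid.End V) ∈ K := by
    intro u
    constructor
    · rintro ⟨c, rfl⟩
      exact (c : K).2
    · intro hu
      refine ⟨Units.mk0 ⟨u, hu⟩ (fun h => ?_), Units.ext rfl⟩
      obtain ⟨v, hv⟩ := exists_ne (0 : V)
      have h2 : (u : AddMonoid.End V) = 0 := congrArg Subtype.val h
      have h3 := u.inv_mul
      rw [h2, mul_zero] at h3
      exact hv (DFunLike.congr_fun h3 v).symm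
  have hconj : ∀ g, ∀ u ∈ s.range, ρ g * u * (ρ g)⁻¹ ∈ s.range := by
    intro g u hu
    rw [hsK] at hu ⊢
    rw [← map_inv]
    exact hK.2 g _ hu
  let Γ : Subgroup (AddMonoid.End V)ˣ :=
    { carrier := {γ | ∃ g, ∃ u ∈ s.range, γ = u * ρ g}
      mul_mem' := by
        rintro _ _ ⟨g, u, hu, rfl⟩ ⟨g', u', hu', rfl⟩
        exact ⟨g * g', u * (ρ g * u' * (ρ g)⁻¹), mul_mem hu (hconj g u' hu'), by
          rw [map_mul]; group⟩
      one_mem' := ⟨1, 1, one_mem _, by simp⟩
      inv_mem' := by
        rintro _ ⟨g, u, hu, rfl⟩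
        exact ⟨g⁻¹, _, hconj g⁻¹ u⁻¹ (inv_mem hu), by rw [map_inv]; group⟩ }
  let sΓ : Kˣ →* Γ := s.codRestrict Γ (fun c => ⟨1, s c, ⟨c, rfl⟩, by simp⟩)
  let f : G →* Γ := ρ.codRestrict Γ (fun g => ⟨g, 1, one_mem _, by simp⟩)
  have hsΓ : ∀ γ : Γ, γ ∈ sΓ.range ↔ (γ : (AddMonoid.End V)ˣ) ∈ s.range := by
    intro γ
    constructor
    · rintro ⟨c, rfl⟩
      exact ⟨c, rfl⟩
    · rintro ⟨c, hc⟩
      exact ⟨c, Subtype.ext hc⟩
  haveI hnorm : sΓ.range.Normal := by
    constructor
    rintro n hn ⟨_, g, u, hu, rfl⟩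
    rw [hsΓ] at hn ⊢
    have := mul_mem (mul_mem hu (hconj g _ hn)) (inv_mem hu)
    convert this using 1
    simp only [Subgroup.coe_mul, Subgroup.coe_inv]
    group
  have hsurj : Function.Surjective ((QuotientGroup.mk' sΓ.range).comp f) := by
    intro x
    induction x using QuotientGroup.induction_on with | H γ => ?_
    obtain ⟨_, g, u, hu, rfl⟩ := γ
    refine ⟨g, ?_⟩
    change ((f g : Γ) : Γ ⧸ sΓ.range) = _
    rw [QuotientGroup.eq, hsΓ]
    have := hconj g⁻¹ u hu
    convert this using 1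
    simp [f, mul_assoc]
  have hsolv : Group.IsSolvable Γ := by
    haveI : Group.IsSolvable (Γ ⧸ sΓ.range) := Group.isSolvable_of_surjective hsurj
    haveI : Group.IsSolvable Kˣ := inferInstance
    exact Group.isSolvable_of_ker_le_range sΓ (QuotientGroup.mk' sΓ.range) (by simp)
  refine ⟨K, inferInstance, inferInstance, inferInstance, Γ, inferInstance, inferInstance,
    inferInstance, ⟨sΓ, fun c v => rfl, ?_, hnorm, hsolv, ?_, hirr.1⟩, f, fun g v => rfl,
    ⟨_, hxK (Subring.subset_closure rfl)⟩, fun v => rfl⟩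
  · intro g hg
    apply Subtype.ext
    apply Units.ext
    ext v
    exact hg v
  · intro B hB hcomm hZB
    let B' : Set (AddMonoid.End V) := (fun γ : Γ => ((γ : (AddMonoid.End V)ˣ) : AddMonoid.End V)) '' B
    have hK' : InvComm G (Subring.closure B') := by
      constructor
      · have := Subring.isMulCommutative_closure (s := B') (by
          rintro _ ⟨x, hx, rfl⟩ _ ⟨y, hy, rfl⟩
          exact congrArg (fun γ : Γ => ((γ : (AddMonoid.End V)ˣ) : AddMonoid.End V))
            (hcomm x hx y hy))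
        intro x hx y hy
        exact setLike_mul_comm hx hy
      · intro g x hx
        have : Subring.closure B' ≤ (Subring.closure B').comap (cj g) := by
          rw [Subring.closure_le]
          rintro _ ⟨y, hy, rfl⟩
          apply Subring.subset_closure
          refine ⟨_, hB.conj_mem y hy (f g), ?_⟩
          rw [← map_inv]
          rfl
        exact this hx
    have hle : K ≤ Subring.closure B' := by
      intro x hx
      by_cases hx0 : (⟨x, hx⟩ : K) = 0
      · have : x = 0 := congrArg Subtype.val hx0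
        rw [this]
        exact zero_mem _
      · exact Subring.subset_closure ⟨_, hZB ⟨Units.mk0 _ hx0, rfl⟩, rfl⟩
    intro γ hγ
    rw [hsΓ, hsK]
    exact hmax hK' hle (Subring.subset_closure ⟨γ, hγ, rfl⟩)

end Cfsg.Agent.KoRo
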