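import Cfsg.Agent.KoRo.Cb
import Cfsg.Agent.Grp.Fitting
import Cfsg.Agent.Grp.MinNormal

/-!
# Héthelyi–Külshammer: a solvable group of order divisible by `p²` has at least `49 p / 60` classes
-/

set_option autoImplicit false
set_option linter.style.haveILetI false
set_option linter.unusedSectionVars false
open scoped commutatorElement

namespace Cfsg.Agent.KoRo
open Subgroup SolvLin Cfsg

universe u

theorem exists_model {G : Type u} [Group G] [Finite G] (V : Subgroup G) [hVn : V.Normal]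
    (hab : IsMulCommutative V) (hV : V ≠ ⊥)
    (hmin : ∀ K : Subgroup G, K.Normal → K ≤ V → K = ⊥ ∨ K = V) :
    ∃ (N : Type u) (_ : AddCommGroup N) (_ : Finite N) (_ : DistribMulAction G N), Irr G N ∧
      Nat.card N = Nat.card V ∧ trv G N = centralizer (V : Set G) := by
  letI : CommGroup V := { (inferInstance : Group V) with mul_comm := hab.is_comm.comm }
  letI : DistribMulAction G (Additive V) :=
    { smul := fun s x => Additive.ofMul (MulAut.conjNormal s x.toMul)
      one_smul := fun x => by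
        change Additive.ofMul (MulAut.conjNormal 1 x.toMul) = x
        simp
      mul_smul := fun s s' x => by
        change Additive.ofMul (MulAut.conjNormal (s * s') x.toMul) =
          Additive.ofMul (MulAut.conjNormal s (MulAut.conjNormal s' x.toMul))
        simp
      smul_zero := fun s => by
        change Additive.ofMul (MulAut.conjNormal s 1) = 0
        simp
      smul_add := fun s x y => by
        change Additive.ofMul (MulAut.conjNormal s (x.toMul * y.toMul)) =
          Additive.ofMul (MulAut.conjNormal s x.toMul * MulAut.conjNormal s y.toMul)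
        simp }
  refine ⟨Additive V, inferInstance, inferInstance, inferInstance, ⟨?_, fun U hU => ?_⟩, rfl, ?_⟩
  · exact (nontrivial_iff_ne_bot V).2 hV
  · have hn : ((AddSubgroup.toSubgroup' U).map V.subtype).Normal := by
      constructor
      rintro _ ⟨y, hy, rfl⟩ s
      exact ⟨_, hU s (Additive.ofMul y) hy, rfl⟩
    refine (hmin _ hn (map_subtype_le _)).imp (fun h => eq_bot_iff.2 fun x hx => ?_)
      fun h => eq_top_iff.2 fun x _ => ?_
    · exact Subtype.ext (h.le ⟨x.toMul, hx, rfl⟩)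
    · obtain ⟨y, hy, e⟩ := h.ge x.toMul.2
      obtain rfl : y = x.toMul := Subtype.ext e
      exact hy
  · ext g
    rw [mem_trv, mem_centralizer_iff]
    refine ⟨fun h v hv => ?_, fun h v => Subtype.ext ?_⟩
    · exact (mul_inv_eq_iff_eq_mul.1
        (congrArg (fun y : Additive V => ((y.toMul : V) : G)) (h (Additive.ofMul ⟨v, hv⟩)))).symm
    · change g * v.toMul * g⁻¹ = v.toMul
      rw [← h _ v.toMul.2, mul_inv_cancel_right]

theorem k_sq {G : Type*} [Group G] [Finite G] (V C : Subgroup G) [V.Normal] [C.Normal]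
    (hVC : V ≤ C) (hC : C ≤ centralizer (V : Set G)) {n : ℕ} (h : RC C n) :
    4 * (Nat.card V - 1) ≤ n * Nat.card (ConjClasses G) ^ 2 := by
  obtain ⟨c, h1, h2⟩ := k_lower V C hVC hC
  have h3 : C.index ≤ _ := h.quot
  have h4 := Nat.pow_le_pow_left h1 2
  generalize Nat.card (ConjClasses (G ⧸ C)) = a at *
  calc _ ≤ 4 * (c * (n * a)) := Nat.mul_le_mul_left _ (h2.trans (Nat.mul_le_mul_left _ h3))
    _ = n * (4 * a * c) := by ring
    _ ≤ _ := Nat.mul_le_mul_left _ (le_trans (by nlinarith [sq_nonneg ((a : ℤ) - c)]) h4)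

theorem num_cb {p k N n : ℕ} (h : 4 * (N - 1) ≤ n * k ^ 2) (hn : 0 < n)
    (h' : n * (49 * p) ^ 2 + 14400 ≤ 14400 * N) : 49 * p ≤ 60 * k := by
  refine (Nat.pow_le_pow_iff_left two_ne_zero).1 (Nat.le_of_mul_le_mul_left ?_ hn)
  rw [mul_pow 60, mul_left_comm]
  omega

theorem num_gen {p κ : ℕ} (hp : 11 ≤ p) (h0 : 3 ≤ κ) (h3 : κ = 3 → 17 ≤ p) (h4 : κ = 4 → 13 ≤ p) :
    9 ^ (κ - 1) * (49 * p) ^ 2 + 14400 ≤ 14400 * p ^ κ := by
  have step : ∀ a, 1 ≤ a → 9 ^ (a - 1) * (49 * p) ^ 2 + 14400 ≤ 14400 * p ^ a → ∀ κ, a ≤ κ →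
      9 ^ (κ - 1) * (49 * p) ^ 2 + 14400 ≤ 14400 * p ^ κ := by
    intro a ha h κ hκ
    induction κ, hκ using Nat.le_induction with
    | base => exact h
    | succ κ hκ ih =>
      rw [show κ + 1 - 1 = κ - 1 + 1 by omega, pow_succ 9, pow_succ p κ, mul_right_comm]
      have := Nat.mul_le_mul_left (p ^ κ) hp
      omega
  have h2 : 121 ≤ p ^ 2 := Nat.pow_le_pow_left hp 2
  have h5 : ∀ a b, b ≤ p → p ^ 2 * b ^ a ≤ p ^ (2 + a) := fun a b h =>
    pow_add p 2 a ▸ Nat.mul_le_mul_left _ (Nat.pow_le_pow_left h a)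
  by_cases h17 : 17 ≤ p
  · refine step 3 (by decide) ?_ κ h0
    have : _ ≤ p ^ 3 := h5 1 _ h17
    rw [mul_pow]
    omega
  by_cases h13 : 13 ≤ p
  · refine step 4 (by decide) ?_ κ (by omega)
    have : _ ≤ p ^ 4 := h5 2 _ h13
    rw [mul_pow]
    omega
  · refine step 5 (by decide) ?_ κ (by omega)
    have : _ ≤ p ^ 5 := h5 3 _ hp
    rw [mul_pow]
    omega

theorem num_S4 {p z a c : ℕ} (hp : 11 ≤ p) (hz : z ∣ p - 1) (ha : 24 * z ≤ 6 * a)
    (hc : p ^ 2 - 1 ≤ c * (24 * z)) : 49 * p ≤ 60 * (a + c) := by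
  obtain ⟨m, hm⟩ := hz
  obtain rfl : p = z * m + 1 := by omega
  have hz : 0 < z := Nat.pos_of_ne_zero (by rintro rfl; omega)
  have h1 : m * (z * m + 2) ≤ 24 * c := by
    refine Nat.le_of_mul_le_mul_left ?_ hz
    rw [show (z * m + 1) ^ 2 = z * (m * (z * m + 2)) + 1 by ring, Nat.add_sub_cancel] at hc
    exact hc.trans (le_of_eq (by ring))
  clear hc
  rcases le_or_gt 10 m with h | h
  · obtain ⟨m, rfl⟩ := Nat.exists_eq_add_of_le' h
    nlinarith [Nat.zero_le (z * m * m), Nat.zero_le (z * m)]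
  · rcases (by omega : z = 2 ∨ z ≠ 2) with rfl | h' <;> interval_cases m <;> omega

theorem hk_main {G : Type u} [Group G] [Finite G] (hG : Group.IsSolvable G) {p κ : ℕ}
    (hp : p.Prime) (V : Subgroup G) [V.Normal] (hab : IsMulCommutative V)
    (hmin : ∀ K : Subgroup G, K.Normal → K ≤ V → K = ⊥ ∨ K = V) (hκ : 2 ≤ κ)
    (hV : Nat.card V = p ^ κ) : 49 * p ≤ 60 * Nat.card (ConjClasses G) := by
  have h2 : p ^ 2 ≤ p ^ κ := Nat.pow_le_pow_right hp.pos hκ
  have h4 := Nat.pow_le_pow_left hp.two_le 2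
  obtain ⟨N, _, _, _, hirr, hN, ht⟩ := exists_model V hab (fun h => by
    rw [h, card_bot] at hV
    omega) hmin
  have hVC : V ≤ trv G N := ht ▸ le_centralizer V
  rw [hV] at hN
  obtain ⟨c, h1, h3⟩ := k_lower V _ hVC ht.le
  have key : ∀ n, 0 < n → RC (trv G N) n → n * (49 * p) ^ 2 + 14400 ≤ 14400 * p ^ κ →
      49 * p ≤ 60 * Nat.card (ConjClasses G) := fun n h0 h =>
    num_cb (hV ▸ k_sq V _ hVC ht.le h) h0
  rw [hV] at h3
  rcases lt_or_ge p 11 with h11 | h11
  · obtain ⟨l1, l2, l3, l4⟩ := landau (G ⧸ trv G N)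
    have h0 : 0 < Nat.card (ConjClasses (G ⧸ trv G N)) := Nat.card_pos
    have h5 : ∀ m, Nat.card (G ⧸ trv G N) ≤ m → p ^ 2 - 1 ≤ c * m := fun m hm =>
      ((Nat.sub_le_sub_right h2 1).trans h3).trans (Nat.mul_le_mul_left c hm)
    have h6 : c ≠ 0 := by
      rintro rfl
      have := h5 _ le_rfl
      omega
    have a3 := fun h => h5 _ (l3 h)
    have a4 := fun h => h5 _ (l4 h)
    have a1 := fun h => h5 _ (l1 h)
    interval_cases p <;> first | exact absurd hp (by decide) | omega
  rcases hκ.eq_or_lt with rfl | hκ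
  · rcases cb_two hG hirr hp hN with h | ⟨z, hz, hi, h⟩
    · exact key 5 (by decide) h (by nlinarith)
    · have h5 : (trv G N).index ≤ _ := h.quot
      exact (num_S4 h11 hz (hi ▸ h5) (hi ▸ h3)).trans (Nat.mul_le_mul_left _ h1)
  by_cases h : (κ = 3 → 17 ≤ p) ∧ (κ = 4 → 13 ≤ p)
  · exact key _ (by positivity) (cb_gen hp κ G N hG hirr hN) (num_gen h11 hκ h.1 h.2)
  have : κ = 3 ∧ p = 11 ∨ κ = 3 ∧ p = 13 ∨ κ = 4 ∧ p = 11 := by
    have : p < 17 := by omega
    interval_cases p <;> first | exact absurd hp (by decide) | omega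
  rcases this with ⟨rfl, rfl⟩ | ⟨rfl, rfl⟩ | ⟨rfl, rfl⟩
  · exact key _ (by decide) (cb11 G N hG hirr hN) (by decide)
  · exact key _ (by decide) (cb13 G N hG hirr hN) (by decide)
  · exact key _ (by decide) (cb11' G N hG hirr hN) (by decide)

theorem comm_of_prime {G : Type*} [Group G] [Finite G] {V : Subgroup G} [V.Normal] {p : ℕ}
    (hp : p.Prime) (hV : Nat.card V = p) (a b : G) : ⁅a, b⁆ ∈ centralizer (V : Set G) := by
  haveI := Fact.mk hp
  haveI : IsCyclic V := isCyclic_of_prime_card hV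
  intro v hv
  have h1 : MulAut.conjNormal (H := V) ⁅a, b⁆ = 1 := by
    rw [map_commutatorElement, commutatorElement_eq_one_iff_mul_comm]
    exact (IsCyclic.mulAutMulEquiv V).injective (by rw [map_mul, map_mul, mul_comm])
  exact (mul_inv_eq_iff_eq_mul.1 (congrArg Subtype.val (DFunLike.congr_fun h1 ⟨v, hv⟩))).symm

theorem rc_of_comm {G : Type*} [Group G] [Finite G] {C : Subgroup G} [C.Normal]
    (h : ∀ a b : G, ⁅a, b⁆ ∈ C) : RC C 1 :=
  RC.of_hom (CK.of_comm fun x y => by
    induction x using QuotientGroup.induction_on with | H x => ?_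
    induction y using QuotientGroup.induction_on with | H y => ?_
    rw [← commutatorElement_eq_one_iff_mul_comm]
    exact (QuotientGroup.eq_one_iff _).2 (h x y)) (QuotientGroup.mk' C) (QuotientGroup.ker_mk' C).le

theorem hk {p : ℕ} [hp : Fact p.Prime] (G : Type u) [Group G] [Finite G] (hG : Group.IsSolvable G)
    (h : p ^ 2 ∣ Nat.card G) : 49 * p ≤ 60 * Nat.card (ConjClasses G) := by
  induction hn : Nat.card G using Nat.strong_induction_on generalizing G with | _ n ih => ?_
  subst hn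
  by_cases hq : ∃ N : Subgroup G, N.Normal ∧ N ≠ ⊥ ∧ p ^ 2 ∣ N.index
  · obtain ⟨N, _, h1, h2⟩ := hq
    refine (ih _ ?_ (G ⧸ N) inferInstance h2 rfl).trans (Nat.mul_le_mul_left _
      (k_surj _ (QuotientGroup.mk'_surjective N)))
    have := N.card_mul_index
    have : 1 < Nat.card N := (one_lt_card_iff_ne_bot N).2 h1
    have : 0 < N.index := Nat.pos_of_ne_zero FiniteIndex.index_ne_zero
    change N.index < _
    nlinarith
  push Not at hq
  have hO : pPrimeCore p G = ⊥ := by
    by_contra h0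
    exact hq _ inferInstance h0 (((Grp.pPrimeCore_coprime p G).symm.pow_left 2).dvd_of_dvd_mul_left
      ((pPrimeCore p G).card_mul_index ▸ h))
  have h2 := hp.out.two_le
  haveI : Nontrivial G := Finite.one_lt_card_iff_nontrivial.1
    (lt_of_lt_of_le (by nlinarith) (Nat.le_of_dvd Nat.card_pos h))
  obtain ⟨q, V, hq', _, hV, hab, -, hVp, hmin⟩ := Grp.exists_minNormal_elementaryAbelian G
  haveI := Fact.mk hq'
  obtain ⟨κ, hκ⟩ := hVp.exists_card_eq
  obtain rfl : q = p := by
    by_contra hne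
    exact hV (Grp.pPrimeCore_eq_bot_iff.1 hO V inferInstance
      (hκ ▸ ((Nat.coprime_primes hq' hp.out).2 hne).pow_left κ))
  rcases le_or_gt 2 κ with h3 | h3
  · exact hk_main hG hq' V hab hmin h3 hκ
  obtain rfl : κ = 1 := by
    have : κ ≠ 0 := by
      rintro rfl
      exact hV (card_eq_one.1 hκ)
    omega
  rw [pow_one] at hκ
  -- the Sylow subgroup has order `q ^ 2` and is `O_q(G)`
  obtain ⟨S⟩ : Nonempty (Sylow q G) := inferInstance
  have hS : Nat.card (S : Subgroup G) = q ^ 2 := by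
    rw [S.card_eq_multiplicity]
    congr 1
    refine le_antisymm ?_ ((hq'.pow_dvd_iff_le_factorization Nat.card_pos.ne').1 h)
    by_contra h4
    have h5 := (hq'.pow_dvd_iff_le_factorization Nat.card_pos.ne').2 (not_le.1 h4)
    rw [← V.card_mul_index, hκ, pow_succ'] at h5
    exact hq V inferInstance hV (Nat.dvd_of_mul_dvd_mul_left hq'.pos h5)
  have hc := Grp.centralizer_pCore_le hO
  have hSc : ∀ x ∈ (S : Subgroup G), ∀ y ∈ (S : Subgroup G), x * y = y * x := fun x hx y hy =>
    congrArg Subtype.val ((IsPGroup.commGroupOfCardEqPrimeSq hS).mul_comm ⟨x, hx⟩ ⟨y, hy⟩)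
  have hP : pCore q G = S := le_antisymm (Grp.pCore_le_sylow S)
    fun x hx => hc fun y hy => hSc y (Grp.pCore_le_sylow S hy) x hx
  have hVP : V ≤ pCore q G := Grp.le_pCore inferInstance hVp
  have hW : Nat.card ((pCore q G).map (QuotientGroup.mk' V)) = q := by
    have h4 := (V.subgroupOf (pCore q G)).card_mul_index
    rw [Nat.card_congr (subgroupOfEquivOfLe hVP).toEquiv, hκ, ← relIndex] at h4
    conv at h4 => enter [1, 2, 1]; rw [← QuotientGroup.ker_mk' V]
    rw [relIndex_ker] at h4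
    refine Nat.eq_of_mul_eq_mul_left hq'.pos (h4.trans ?_)
    rw [hP, hS, sq]
  have h5 := k_sq (pCore q G) (pCore q G) le_rfl
    (fun x hx y hy => hSc y (hP.le hy) x (hP.le hx)) (rc_of_comm fun a b => by
    have a1 := comm_of_prime hq' hκ a b
    have a2 := comm_of_prime hq' hW (a : G ⧸ V) b
    generalize hg : ⁅a, b⁆ = g at a1
    have a3 : g ^ q ∈ pCore q G := hc fun y hy => by
      have b1 : y⁻¹ * (g * y * g⁻¹) ∈ V := by
        have := a2 y ⟨y, hy, rfl⟩
        rw [← QuotientGroup.eq, QuotientGroup.mk_mul, QuotientGroup.mk_mul, QuotientGroup.mk_inv,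
          ← hg, eq_mul_inv_iff_mul_eq]
        exact this
      have b2 : ∀ n : ℕ, g ^ n * y = y * (y⁻¹ * (g * y * g⁻¹)) ^ n * g ^ n := by
        intro n
        induction n with
        | zero => simp
        | succ n ih =>
          have := (Commute.pow_left (a1 _ b1) n).eq
          rw [pow_succ', mul_assoc, ih, pow_succ' (y⁻¹ * _)]
          generalize (y⁻¹ * (g * y * g⁻¹)) ^ n = w at this ⊢
          calc g * (y * w * g ^ n) = g * y * g⁻¹ * (g * w) * g ^ n := by group
            _ = _ := by rw [← this]; group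
      have b3 : (y⁻¹ * (g * y * g⁻¹)) ^ q = 1 := by
        have := pow_card_eq_one' (x := (⟨_, b1⟩ : V))
        rw [hκ] at this
        exact congrArg Subtype.val this
      rw [b2, b3, mul_one]
    refine mem_of_coprime (hq'.coprime_iff_not_dvd.2 (hP ▸ S.not_dvd_index)) a3 (pow_index_mem _ g))
  rw [hP, hS] at h5
  exact num_cb h5 one_pos (by nlinarith)

end Cfsg.Agent.KoRo
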