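import Cfsg.Agent.KoRo.HK
import Cfsg.Agent.KoRo.Ann
import Cfsg.Agent.KoRo.Fld

/-!
# Class numbers of solvable groups with a non-normal Sylow subgroup of prime order
-/

set_option autoImplicit false
set_option linter.style.haveILetI false
set_option linter.unusedSectionVars false
open scoped commutatorElement

namespace Cfsg.Agent.KoRo
open Subgroup SolvLin Cfsg Polynomial

universe u v

theorem mem_imprim {G V : Type*} [Group G] [AddCommGroup V] [DistribMulAction G V] (I : Imprim G V)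
    {x : G} {p : ℕ} (hp : p.Prime) (hxp : ∀ v : V, x ^ p • v = v)
    (hf : ∀ v : V, x • v = v → v = 0) : x ∈ I.H := by
  by_contra hx
  obtain ⟨u, hu, hu0⟩ := I.exists_ne_zero
  have h1 : x ^ p ∈ I.H := by
    by_contra h
    exact hu0 (by rw [← I.orth' h hu, hxp, I.e_mem hu])
  have h2 : ∑ i ∈ Finset.range p, x ^ i • u = 0 := hf _ (by
    simp only [Finset.smul_sum, ← mul_smul, ← pow_succ']
    refine add_right_cancel (b := x ^ 0 • u) ?_
    rw [← Finset.sum_range_succ' (fun i => x ^ i • u), Finset.sum_range_succ, hxp, pow_zero,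
      one_smul])
  have h3 := congrArg I.e h2
  rw [map_sum, map_zero, Finset.sum_eq_single_of_mem 0 (Finset.mem_range.2 hp.pos) fun i hi h0 =>
    I.orth' (fun h => hx (mem_of_coprime (Nat.coprime_of_lt_prime h0 (Finset.mem_range.1 hi) hp)
      h1 h)) hu, pow_zero, one_smul, I.e_mem hu] at h3
  exact hu0 h3

theorem ann_le {G V : Type*} [Group G] [AddCommGroup V] [DistribMulAction G V] {x : G}
    {U : AddSubgroup V} (A : AddSubgroup ℤ[X]) (h0 : A.index ≠ 0)
    (h : ∀ f ∈ A, ∀ v ∈ U, ev V x f v = 0) : (ann x U).index ≤ A.index :=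
  haveI : A.FiniteIndex := ⟨h0⟩
  AddSubgroup.index_antitone h

theorem j2_irr {p : ℕ} (hp : p.Prime) (h9 : 9 ≤ p) (m : ℕ) : ∀ (G : Type u) (V : Type v) [Group G]
    [Finite G] [AddCommGroup V] [Finite V] [DistribMulAction G V], Nat.card V = m →
    Group.IsSolvable G → Irr G V → ∀ x : G, (∀ (g : G) (v : V), g • x • v = x • g • v) →
    (∀ v : V, x ^ p • v = v) → (∀ v : V, x • v = v → v = 0) →
    ∃ n μ, RC (trv G V) n ∧ n * μ ≤ m ∧ (ann x (⊤ : AddSubgroup V)).index ≤ μ ∧ 9 ≤ μ := by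
  induction m using Nat.strong_induction_on with | _ m ih => ?_
  intro G V _ _ _ _ _ hm hG hirr x hc hxp hf
  subst hm
  rcases imprim_or_setup' hG hirr hc with ⟨⟨I⟩⟩ | ⟨K, _, _, _, Γ, _, _, _, S, φ, hφ, ζ, hζ⟩
  · letI := subAct I.e.range I.inv
    haveI := Fintype.ofFinite (G ⧸ I.H)
    have h1 := I.card_pow_le
    have h2 : 2 ≤ I.H.index := one_lt_index_of_ne_top I.coatom.1
    haveI := (I.irr hirr).1
    obtain ⟨n, μ, a1, a2, a3, a4⟩ := ih _ (lt_of_lt_of_le
      (lt_self_pow₀ Finite.one_lt_card h2) h1) I.H I.e.range rfl inferInstance (I.irr hirr)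
      ⟨x, mem_imprim I hp hxp hf⟩ (fun g v => Subtype.ext (hc g v))
      (fun v => Subtype.ext (hxp v)) fun v hv => Subtype.ext (hf v (congrArg Subtype.val hv))
    refine ⟨_, μ, (a1.coset (dixon_ord hG I.coatom)).core (imprim_core I hirr), ?_,
      (ann_le _ (ann_index_ne_zero _ _) fun f hf v _ => ?_).trans a3, a4⟩
    · refine le_trans ?_ ((Nat.pow_le_pow_left a2 _).trans h1)
      obtain ⟨t, ht⟩ := Nat.exists_eq_add_one_of_ne_zero (FiniteIndex.index_ne_zero (H := I.H))
      rw [ht, mul_pow, mul_assoc, pow_succ μ, Nat.add_sub_cancel, ← pow_mul, mul_comm t, pow_mul]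
      exact Nat.mul_le_mul_left _ (Nat.mul_le_mul_right _ (Nat.pow_le_pow_left a4 t))
    · obtain ⟨u, hu, hu0⟩ := I.exists_ne_zero
      have h3 := (hirr.2 (ev V x f).toAddMonoidHom.ker fun g w hw =>
        (ev_hom (DistribSMul.toAddMonoidHom V g) (hc g) f w).symm.trans
          ((congrArg _ hw).trans (map_zero _))).resolve_left fun h => hu0 (h.le
            ((ev_hom (x := (⟨x, mem_imprim I hp hxp ‹_›⟩ : I.H)) I.e.range.subtype (fun _ => rfl) f
              ⟨u, hu⟩).symm.trans (congrArg Subtype.val (hf _ trivial))))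
      exact h3.ge trivial
  haveI := hirr.1
  obtain ⟨v, hv⟩ := exists_ne (0 : V)
  obtain ⟨q, k, hq, -, hV⟩ := irr_card hirr
  obtain ⟨f, hK, -, a2, -⟩ := setup_card (K := K) hq hV
  obtain ⟨hs, -, e, -, e2, -, e4, -⟩ := qp2 S hq hK rfl fun e h1 _ _ => ob_β h1
  let F : Subfield K :=
    { carrier := {c | ∀ (g : G) (v : V), g • c • v = c • g • v}
      mul_mem' := fun {a b} ha hb g v => by rw [mul_smul, ha, hb, mul_smul]
      one_mem' := fun g v => by rw [one_smul, one_smul]
      add_mem' := fun {a b} ha hb g v => by rw [add_smul, smul_add, ha, hb, add_smul]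
      zero_mem' := fun g v => by rw [zero_smul, zero_smul, smul_zero]
      neg_mem' := fun {a} ha g v => by rw [neg_smul, smul_neg, ha, neg_smul]
      inv_mem' := fun a ha g v => by
        by_cases h : a = 0
        · rw [h, inv_zero, zero_smul, zero_smul, smul_zero]
        · rw [eq_inv_smul_iff₀ h, ← ha, smul_inv_smul₀ h] }
  let z : F := ⟨ζ, fun g v => by rw [← hζ, ← hζ, hc]⟩
  have hz : ∀ v : V, x • v = z • v := hζ
  have h1 : z ^ p = 1 := by
    have := ev_scalar hz (X ^ p) v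
    rw [ev_X_pow, hxp, map_pow, aeval_X] at this
    exact smul_cancel hv (this.symm.trans (one_smul _ _).symm)
  have h2 : 9 ≤ Nat.card F := by
    haveI := Fact.mk hp
    have h3 : orderOf (Units.ofPowEqOne z p h1 hp.ne_zero) = p := orderOf_eq_prime (Units.ext (by
      simp)) fun h => hv (hf v (by
        rw [hz, show z = 1 from congrArg Units.val h, one_smul]))
    exact h9.trans (h3.ge.trans (orderOf_le_card.trans (Nat.card_units F ▸ Nat.sub_le _ _)))
  refine ⟨_, Nat.card F, rc_qp S φ hφ e4 (index_lin (fun g => by simpa only [hφ] using hs (φ g)) F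
    fun g c hc => hc g), ?_, ?_, h2⟩
  · rw [Module.natCard_eq_pow_finrank (K := K) (V := V), Module.natCard_eq_pow_finrank (K := F) (V := K),
      ← pow_mul]
    have h3 : 1 ≤ Module.finrank F K := Module.finrank_pos
    refine (Nat.mul_le_mul_right _ (Nat.mul_le_mul (γ_le e) sq_le_nine)).trans ?_
    rw [← pow_add]
    refine (Nat.mul_le_mul_right _ (Nat.pow_le_pow_left h2 _)).trans ?_
    rw [← pow_succ]
    refine Nat.pow_le_pow_right (by omega) ?_
    obtain ⟨a, ha⟩ := Nat.exists_eq_add_of_le' a2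
    obtain ⟨b, hb⟩ := Nat.exists_eq_add_of_le' h3
    rw [ha, hb, show (b + 1) * (a + 1) = a * b + a + b + 1 by ring]
    omega
  · refine (ann_le (aeval z : ℤ[X] →ₐ[ℤ] F).toRingHom.toAddMonoidHom.ker
      AddSubgroup.FiniteIndex.index_ne_zero fun f hf v _ => ?_).trans ?_
    · rw [ev_scalar hz, show aeval z f = 0 from hf, zero_smul]
    · rw [AddSubgroup.index_ker]
      exact AddSubgroup.card_le_card_addGroup _

theorem j2 {p : ℕ} (hp : p.Prime) (h9 : 9 ≤ p) {G V : Type*} [Group G] [Finite G] [AddCommGroup V]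
    [Finite V] [DistribMulAction G V] (hG : Group.IsSolvable G) (hcr : CR G V) {x : G}
    (hc : ∀ (g : G) (v : V), g • x • v = x • g • v) (hxp : ∀ v : V, x ^ p • v = v)
    (hf : ∀ v : V, x • v = v → v = 0) :
    ∃ n, RC (trv G V) n ∧ n * (ann x (⊤ : AddSubgroup V)).index ≤ Nat.card V := by
  obtain ⟨n, h1, h2⟩ := cr_ind hcr (fun U => ∃ n, RC (fixingSubgroup G (U : Set V)) n ∧
      n * (ann x U).index ≤ Nat.card U)
    ⟨1, RC.top.mono fun g _ => (mem_fixingSubgroup_iff G).2 fun w hw => by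
      rw [show w = 0 from hw, smul_zero], by
      rw [show ann x (⊥ : AddSubgroup V) = ⊤ from eq_top_iff.2 fun f _ w hw => by
        rw [show w = 0 from hw, map_zero]]
      simp⟩ (by
    rintro U W hU hirr hW hUW ⟨b, hb, hb'⟩
    letI := subAct U hU
    obtain ⟨a, μ, a1, a2, a3, -⟩ := j2_irr hp h9 _ G U rfl hG hirr x
      (fun g v => Subtype.ext (hc g v)) (fun v => Subtype.ext (hxp v))
      fun v hv => Subtype.ext (hf v (congrArg Subtype.val hv))
    refine ⟨_, (a1.inf hb).mono fun g hg => (mem_fixingSubgroup_iff G).2 fun w hw => ?_, ?_⟩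
    · obtain ⟨y, hy, z, hz, rfl⟩ := AddSubgroup.mem_sup.1 hw
      rw [smul_add, (mem_fixingSubgroup_iff G).1 hg.2 z hz,
        show g • y = y from congrArg Subtype.val (mem_trv.1 hg.1 ⟨y, hy⟩)]
    rw [card_sup hUW]
    refine le_trans (Nat.mul_le_mul_left _ ((ann_le (ann x (⊤ : AddSubgroup U) ⊓ ann x W)
      (AddSubgroup.index_inf_ne_zero (ann_index_ne_zero _ _) (ann_index_ne_zero _ _))
      fun f hf w hw => ?_).trans
        (AddSubgroup.index_inf_le.trans (Nat.mul_le_mul_right _ a3)))) ?_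
    · obtain ⟨y, hy, z, hz, rfl⟩ := AddSubgroup.mem_sup.1 hw
      rw [map_add, hf.2 z hz, add_zero]
      exact (ev_hom U.subtype (fun _ => rfl) f ⟨y, hy⟩).symm.trans
        (congrArg Subtype.val (hf.1 _ trivial))
    · rw [mul_mul_mul_comm]
      exact Nat.mul_le_mul a2 hb')
  exact ⟨n, h1.mono fun g hg => mem_trv.2 fun w => (mem_fixingSubgroup_iff G).1 hg w trivial,
    by simpa using h2⟩

theorem k_log {p : ℕ} [hp : Fact p.Prime] (G : Type u) [Group G] [Finite G]
    (hG : Group.IsSolvable G) (h : p ∣ (pCore p G).index) :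
    (p : ℝ) / (3 * Real.logb 2 p) ≤ Nat.card (ConjClasses G) := by
  classical
  induction hn : Nat.card G using Nat.strong_induction_on generalizing G with | _ n ih => ?_
  subst hn
  by_cases h2 : p ^ 2 ∣ Nat.card G
  · exact num4190 (e := 0) hp.out.two_le (Or.inl (hk G hG h2))
  have hO : pCore p G = ⊥ := by
    by_contra h0
    refine h2 ?_
    rw [← (pCore p G).card_mul_index, sq]
    exact Nat.mul_dvd_mul (((Grp.pCore_isPGroup p G).card_eq_or_dvd).resolve_left
      fun h => h0 (card_eq_one.1 h)) h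
  obtain ⟨x, hx⟩ := exists_prime_orderOf_dvd_card' p (h.trans (index_dvd_card _))
  have hx1 : x ≠ 1 := fun h => hp.out.ne_one (by rw [← hx, h, orderOf_one])
  haveI : Nontrivial G := ⟨x, 1, hx1⟩
  have hxp : x ^ p = 1 := hx ▸ pow_orderOf_eq_one x
  obtain ⟨q, V, hq, _, hV, hab, hVq, hVp, hmin⟩ := Grp.exists_minNormal_elementaryAbelian G
  have hk := k_surj _ (QuotientGroup.mk'_surjective V)
  have h1V : 1 < Nat.card V := (one_lt_card_iff_ne_bot V).2 hV
  by_cases h3 : p ∣ (pCore p (G ⧸ V)).index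
  · refine (ih _ ?_ (G ⧸ V) inferInstance h3 rfl).trans (Nat.cast_le.2 hk)
    have := V.card_mul_index
    have : 0 < V.index := Nat.pos_of_ne_zero FiniteIndex.index_ne_zero
    change V.index < _
    nlinarith
  have hpq : p ≠ q := by
    rintro rfl
    exact hV (eq_bot_iff.2 (hO ▸ Grp.le_pCore inferInstance hVp))
  have hco := (Nat.coprime_primes hp.out hq).2 hpq
  have hb : ∀ v ∈ V, v ^ p = 1 → v = 1 := fun v hv h =>
    mem_bot.1 (mem_of_coprime hco (mem_bot.2 h) (mem_bot.2 (hVq v hv)))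
  have hy : orderOf (x : G ⧸ V) = p := orderOf_eq_prime
    (by rw [← QuotientGroup.mk_pow, hxp, QuotientGroup.mk_one])
    fun h => hx1 (hb x ((QuotientGroup.eq_one_iff x).1 h) hxp)
  have hP : zpowers (x : G ⧸ V) = pCore p (G ⧸ V) := by
    refine eq_of_le_of_card_ge (zpowers_le.2 (mem_of_coprime (hp.out.coprime_iff_not_dvd.2 h3)
      (by rw [← hy, pow_orderOf_eq_one]; exact one_mem _) (pow_index_mem _ _))) ?_
    obtain ⟨k, hk⟩ := (Grp.pCore_isPGroup p (G ⧸ V)).exists_card_eq
    rw [Nat.card_zpowers, hy, hk]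
    refine (Nat.pow_le_pow_right hp.out.pos (not_lt.1 fun h4 => h2 ?_)).trans_eq (pow_one p)
    exact ((pow_dvd_pow p h4).trans (hk ▸ card_subgroup_dvd_card _)).trans (index_dvd_card V)
  haveI hPn : (zpowers (x : G ⧸ V)).Normal := hP ▸ inferInstance
  have hPc : Nat.card (zpowers (x : G ⧸ V)) = p := by rw [Nat.card_zpowers, hy]
  have hj : ∀ g : G, ∃ j < p, (x ^ j)⁻¹ * (g * x * g⁻¹) ∈ V := fun g => by
    obtain ⟨j, h4, h5⟩ := Finset.mem_image.1 (mem_zpowers_iff_mem_range_orderOf.1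
      (hPn.conj_mem _ (mem_zpowers _) (g : G ⧸ V)))
    exact ⟨j, hy ▸ Finset.mem_range.1 h4, QuotientGroup.eq.1 h5⟩
  choose j hj1 hj using hj
  have hxC : x ∉ centralizer (V : Set G) := fun h => by
    have h4 : (zpowers x).Normal := ⟨fun y hy g => by
      obtain ⟨i, rfl⟩ := hy
      have h5 := hb _ (hj g) (by
        have h6 : Commute (x ^ j g) ((x ^ j g)⁻¹ * (g * x * g⁻¹)) :=
          (Commute.pow_right (h _ (hj g)) _).symm
        have h7 := h6.mul_pow p
        rwa [mul_inv_cancel_left, conj_pow, ← pow_mul, mul_comm (j g), pow_mul, hxp, one_pow,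
          one_mul, mul_one, mul_inv_cancel, eq_comm] at h7)
      rw [← conj_zpow, ← inv_mul_eq_one.1 h5]
      exact zpow_mem (npow_mem_zpowers x _) i⟩
    exact hx1 (mem_bot.1 (hO ▸ Grp.le_pCore h4 (IsPGroup.of_card (n := 1)
      (by rw [Nat.card_zpowers, hx, pow_one])) (mem_zpowers x)))
  let C := centralizer (zpowers (x : G ⧸ V) : Set (G ⧸ V))
  have h4 := k_sq _ C (le_centralizer _) le_rfl (rc_of_comm (comm_of_prime hp.out hPc))
  obtain ⟨c, h5, h6⟩ := k_lower _ C (le_centralizer _) le_rfl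
  rw [hPc] at h4 h6
  have h7 : 0 < Nat.card (ConjClasses ((G ⧸ V) ⧸ C)) := Nat.card_pos
  have h8 : 0 < C.index := Nat.pos_of_ne_zero FiniteIndex.index_ne_zero
  refine num4190 (e := C.index) hp.out.two_le (Or.inr ⟨h4.trans
    ((one_mul _).trans_le (Nat.pow_le_pow_left hk 2)), ?_, fun h9 => ?_⟩)
  · refine le_trans ?_ (Nat.mul_le_mul_right _ (show c + 1 ≤ _ by omega))
    rw [add_mul]
    omega
  obtain ⟨N, _, _, _, hirr, hN, ht⟩ := exists_model V hab hV hmin
  haveI := hirr.1
  have hVC : V ≤ trv G N := ht ▸ le_centralizer V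
  have hj' : ∀ (g : G) (v : N), g • x • v = x ^ j g • g • v := fun g v => by
    have := mem_trv.1 (hVC (hj g)) (g • v)
    rwa [mul_smul, inv_smul_eq_iff, mul_smul, mul_smul, inv_smul_smul] at this
  have hf : ∀ v : N, x • v = v → v = 0 := fun v hv =>
    ((hirr.2 (fx N x) fun g w hw => by
      have h10 := mem_trv.1 (hVC (hj g⁻¹)) w
      rw [mul_smul, inv_smul_eq_iff, mul_smul, mul_smul, inv_inv, inv_smul_eq_iff,
        show x ^ j g⁻¹ • w = w from pow_mem (show x ∈ MulAction.stabilizer G w from hw) _] at h10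
      exact h10).resolve_right fun h => hxC (ht ▸ mem_trv.2 fun w => h.ge trivial)).le hv
  have hxp' : ∀ v : N, x ^ p • v = v := fun v => by rw [hxp, one_smul]
  let K := C.comap (QuotientGroup.mk' V)
  have hK : K.index = C.index := index_comap_of_surjective _ (QuotientGroup.mk'_surjective V)
  obtain ⟨n, a1, a2⟩ := j2 hp.out (by omega) (G := K) inferInstance (cr_of_normal hirr K)
    (x := ⟨x, le_centralizer _ (mem_zpowers (x : G ⧸ V))⟩) (fun g v => by
      have h10 : (x * g)⁻¹ * (g * x) ∈ V := QuotientGroup.eq.1 (g.2 _ (mem_zpowers _))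
      have := mem_trv.1 (hVC h10) v
      rwa [mul_smul, inv_smul_eq_iff, mul_smul, mul_smul] at this) hxp' hf
  have a3 := k_sq V _ hVC ht.le (RC.of_index (B := K) (a1.mono fun g hg => mem_trv.2 (mem_trv (g := g).1 hg))
    hK.le)
  haveI := Fintype.ofFinite G
  have a4 := two_pow_le_ann hp.out hq hpq (hirr.nsmul_eq_zero hq (hN ▸
    (hVp.card_eq_or_dvd (hp := ⟨hq⟩)).resolve_left h1V.ne')) hxp' hf (Finset.univ.image j)
    fun i hi => by
      obtain ⟨g, -, rfl⟩ := Finset.mem_image.1 hi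
      exact ⟨hj1 g, g, hj' g⟩
  have a5 : C.index ≤ (Finset.univ.image j).card := by
    rw [← hK, ← relIndex_top_right, ← Nat.card_eq_finsetCard]
    refine relIndex_le_card _ _ (fun g => ⟨j g, Finset.mem_image_of_mem _ (Finset.mem_univ _)⟩)
      fun a b hab => ?_
    have b1 : j a = j b := congrArg Subtype.val hab
    have b2 := (QuotientGroup.eq.2 (hj a)).symm.trans (b1 ▸ QuotientGroup.eq.2 (hj b))
    rintro _ ⟨i, rfl⟩
    refine (Commute.zpow_left ?_ i).eq
    simp only [QuotientGroup.mk_mul, QuotientGroup.mk_inv] at b2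
    change (x : G ⧸ V) * ((a : G ⧸ V)⁻¹ * b) = (a : G ⧸ V)⁻¹ * b * x
    rw [mul_assoc, mul_inv_eq_iff_eq_mul.1 b2.symm]
    group
  have a6 : n * 2 ^ C.index ≤ Nat.card V := hN ▸
    (Nat.mul_le_mul_left _ ((Nat.pow_le_pow_right two_pos a5).trans a4)).trans a2
  have a7 : 0 < n := Nat.pos_of_ne_zero fun h => by
    rw [h, zero_mul, zero_mul] at a3
    omega
  refine Nat.le_of_mul_le_mul_left ?_ a7
  rw [mul_pow, mul_comm (_ ^ 2), ← mul_assoc]
  omega

end Cfsg.Agent.KoRo
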