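import Cfsg.Agent.KoRo.QP

/-!
# Kovács–Robinson: class numbers of solvable linear groups modulo a normal class two subgroup
-/

set_option autoImplicit false
set_option linter.style.haveILetI false
set_option linter.unusedSectionVars false
set_option synthInstance.maxSize 1024
open scoped commutatorElement

namespace Cfsg.Agent.KoRo
open Subgroup SolvLin

universe u v

section
variable {G V : Type*} [Group G] [AddCommGroup V] [DistribMulAction G V]

theorem imprim_card [Finite G] [Finite V] (I : Imprim G V) {p k : ℕ} (hp : p.Prime)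
    (hV : Nat.card V = p ^ k) : ∃ j, Nat.card I.e.range = p ^ j ∧ 1 ≤ j ∧ j * I.H.index ≤ k ∧
      2 ≤ I.H.index := by
  obtain ⟨j, -, hj⟩ := (Nat.dvd_prime_pow hp).1 (hV ▸ I.e.range.card_addSubgroup_dvd_card)
  refine ⟨j, hj, Nat.pos_of_ne_zero ?_, ?_, one_lt_index_of_ne_top I.coatom.1⟩
  · rintro rfl
    obtain ⟨v, hv, hv0⟩ := I.exists_ne_zero
    exact hv0 (congrArg Subtype.val
      ((Nat.card_eq_one_iff_unique.1 hj).1.elim (⟨v, hv⟩ : I.e.range) 0))
  · haveI := Fintype.ofFinite (G ⧸ I.H)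
    have := I.card_pow_le
    rwa [hj, hV, ← pow_mul, Nat.pow_le_pow_iff_right hp.one_lt] at this

theorem imprim_triv [Finite G] (I : Imprim G V) (hirr : Irr G V) {g : G}
    (h : ∀ x : G, ∀ u ∈ I.e.range, (x⁻¹ * g * x) • u = u) : g ∈ trv G V :=
  mem_trv.2 (I.triv hirr fun ω u hu => by
    have := h ω.out u hu
    rwa [mul_smul, mul_smul, inv_smul_eq_iff] at this)

theorem setup_card {K : Type*} [Field K] [Finite K] [Finite V] [Nontrivial V] [Module K V]
    {p k : ℕ} (hp : p.Prime) (hV : Nat.card V = p ^ k) :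
    ∃ f, Nat.card K = p ^ f ∧ 1 ≤ f ∧ 1 ≤ Module.finrank K V ∧ f * Module.finrank K V = k := by
  have h1 := Module.natCard_eq_pow_finrank (K := K) (V := V)
  have h2 : 0 < Module.finrank K V := Module.finrank_pos
  obtain ⟨f, -, hf⟩ := (Nat.dvd_prime_pow hp).1
    (hV ▸ h1 ▸ dvd_pow_self (Nat.card K) h2.ne' : Nat.card K ∣ p ^ k)
  refine ⟨f, hf, Nat.pos_of_ne_zero ?_, h2, ?_⟩
  · rintro rfl
    exact Finite.one_lt_card.ne' hf
  · rw [hV, hf, ← pow_mul] at h1
    exact (Nat.pow_right_injective hp.two_le h1).symm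

end

theorem pb_step {p k n : ℕ} (hp : p.Prime) (c : ℕ → ℕ)
    (hc : ∀ j, 1 ≤ j → j * 2 ≤ k → PB.{v, v} (p ^ j) (c j))
    (hq : ∀ f ≤ k, ∀ e ≤ k, 1 ≤ f → f * e ≤ k → 2 ≤ e → ¬ e.Coprime (p ^ f - 1) →
      PB.{v, v} (e ^ 2) (3 ^ (e - 1)))
    (h1 : ∀ j ≤ k, ∀ t ≤ k, 1 ≤ j → 2 ≤ t → j * t ≤ k → c j ^ t * t.factorial ≤ n)
    (h2 : ∀ f ≤ k, f ∣ k → p ^ f - 1 + ((p ^ f).sqrt - 1) * f ≤ n)
    (h3 : ∀ f ≤ k, ∀ e ≤ k, f ∣ k → f * e ≤ k → 2 ≤ e → ¬ e.Coprime (p ^ f - 1) →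
      (p ^ f - 1) * e ^ 2 * (f * 3 ^ (e - 1)) ≤ n) : PB.{u, v} (p ^ k) n := by
  refine pb_of_faithful fun G V _ _ _ _ _ hG hirr hV hf => ?_
  rcases imprim_or_setup hG hirr with ⟨⟨I⟩⟩ | ⟨K, _, _, _, Γ, _, _, _, S, φ, hφ, -⟩
  · letI := subAct I.e.range I.inv
    obtain ⟨j, hj, a1, a2, a3⟩ := imprim_card I hp hV
    have a4 := (hc j a1 ((Nat.mul_le_mul_left j a3).trans a2) I.H I.e.range inferInstance
      (I.irr hirr) hj).coset (RK.fact I.H)
    refine (a4.sk (MonoidHom.id G) Function.surjective_id fun g hg => ?_).le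
      (h1 j (by nlinarith) _ (by nlinarith) a1 a3 a2)
    refine hf g (mem_trv.1 (imprim_triv I hirr fun x u hu => ?_))
    obtain ⟨y, hy, e⟩ := hg x⁻¹
    rw [inv_inv] at e
    rw [← e]
    exact congrArg Subtype.val (mem_trv.1 hy ⟨u, hu⟩)
  · haveI := hirr.1
    obtain ⟨f, hK, a1, a2, a3⟩ := setup_card (K := K) hp hV
    have b1 : f ≤ k := by nlinarith
    have b2 : ∀ e ≤ Module.finrank K V, e ≤ k ∧ f * e ≤ k := fun e he =>
      ⟨by nlinarith, a3 ▸ Nat.mul_le_mul_left f he⟩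
    obtain ⟨M, e, _, e1, e2, e3, e4, e5, -, -, e6⟩ := qp S hp hK rfl
      fun e h1 h2 h3 => hq f b1 e (b2 e h2).1 a1 (b2 e h2).2 h1 h3
    refine SK.of_inj ?_ φ ((injective_iff_map_eq_one φ).2 fun g hg => hf g fun v => by
      rw [← hφ, hg, one_smul])
    rcases e1.eq_or_lt with h | h
    · exact (e6 h.symm).le (h2 f b1 ⟨_, a3.symm⟩)
    · exact (e5.ext (SK.of_card e4.le)).le (h3 f b1 e (b2 e e2).1 ⟨_, a3.symm⟩ (b2 e e2).2 h (e3 h))

theorem pb_sq_prime {p : ℕ} (hp : p.Prime) : PB.{u, v} (p ^ 2) (3 ^ (p - 1)) := by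
  refine (pb_prime_sq hp).le ?_
  have h := hp.two_le
  clear hp
  induction p, h using Nat.le_induction with
  | base => decide
  | succ p h ih =>
    obtain ⟨q, rfl⟩ := Nat.exists_eq_add_of_le' h
    rw [show q + 2 - 1 = q + 1 from rfl] at ih
    rw [show q + 2 + 1 - 1 = q + 1 + 1 from rfl, pow_succ 3]
    have : (q + 2) ^ 2 = q * q + 4 * q + 4 := by ring
    have : (q + 2 + 1) ^ 2 = q * q + 6 * q + 9 := by ring
    omega

theorem pb2 : PB.{u, v} 2 1 := pb_prime Nat.prime_two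
theorem pb3 : PB.{u, v} 3 2 := pb_prime Nat.prime_three
theorem pb4 : PB.{u, v} (2 ^ 2) 3 := pb_sq_prime Nat.prime_two
theorem pb9 : PB.{u, v} (3 ^ 2) 9 := pb_sq_prime Nat.prime_three

theorem pb8 : PB.{u, v} (2 ^ 3) 10 := by
  refine pb_step Nat.prime_two (fun _ => 1) (fun j h1 h2 => ?_) (fun f _ e _ _ _ _ _ => ?_)
    (by decide +kernel) (by decide +kernel) (by decide +kernel)
  · obtain rfl : j = 1 := by omega
    exact pb2
  · interval_cases e
    exacts [pb4, pb9]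

theorem pb16 : PB.{u, v} (2 ^ 4) 27 := by
  refine pb_step Nat.prime_two (fun j => [1, 1, 3].getD j 0) (fun j h1 h2 => ?_)
    (fun f _ e _ _ _ _ h => ?_) (by decide +kernel) (by decide +kernel) (by decide +kernel)
  · have : j ≤ 2 := by omega
    interval_cases j
    exacts [pb2, pb4]
  · interval_cases e
    · exact pb4
    · exact pb9
    · obtain rfl : f = 1 := by omega
      exact absurd (by decide) h

theorem pb_two {k n : ℕ} (hk : k ≤ 8)
    (h1 : ∀ j ≤ k, ∀ t ≤ k, 1 ≤ j → 2 ≤ t → j * t ≤ k →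
      [1, 1, 3, 10, 27].getD j 0 ^ t * t.factorial ≤ n)
    (h2 : ∀ f ≤ k, f ∣ k → 2 ^ f - 1 + ((2 ^ f).sqrt - 1) * f ≤ n)
    (h3 : ∀ f ≤ k, ∀ e ≤ k, f ∣ k → f * e ≤ k → 2 ≤ e → ¬ e.Coprime (2 ^ f - 1) →
      (2 ^ f - 1) * e ^ 2 * (f * 3 ^ (e - 1)) ≤ n) : PB.{u, v} (2 ^ k) n := by
  refine pb_step Nat.prime_two (fun j => [1, 1, 3, 10, 27].getD j 0) (fun j h1 h2 => ?_)
    (fun f _ e _ _ _ _ h => ?_) h1 h2 h3
  · have : j ≤ 4 := by omega
    interval_cases j
    exacts [pb2, pb4, pb8, pb16]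
  · by_cases hf : f = 1
    · subst hf
      exact absurd (by simp) h
    have : e ≤ 4 := by nlinarith [show 2 ≤ f by omega]
    interval_cases e
    exacts [pb4, pb9, pb16]

theorem pb81 : PB.{u, v} (3 ^ 4) 6561 := by
  refine pb_step Nat.prime_three (fun j => [1, 2, 9].getD j 0) (fun j h1 h2 => ?_)
    (fun f _ e _ _ _ _ h => ?_) (by decide +kernel) (by decide +kernel) (by decide +kernel)
  · have : j ≤ 2 := by omega
    interval_cases j
    exacts [pb3, pb9]
  · interval_cases e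
    exacts [pb4, pb9, pb16]

theorem pow_six_le {e : ℕ} (he : 17 ≤ e) : (e ^ 2) ^ 3 ≤ 3 ^ (e - 1) := by
  induction e, he using Nat.le_induction with
  | base => decide
  | succ e h ih =>
    have h1 : (17 * (e + 1)) ^ 6 ≤ (18 * e) ^ 6 := Nat.pow_le_pow_left (by omega) _
    rw [show e + 1 - 1 = e - 1 + 1 by omega, pow_succ 3, ← pow_mul]
    rw [← pow_mul] at ih
    rw [mul_pow, mul_pow] at h1
    norm_num at h1 ih ⊢
    omega

theorem pow_four_le {t : ℕ} (ht : 9 ≤ t) : t * t ^ 3 ≤ 3 ^ (t - 1) := by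
  rw [← pow_succ']
  induction t, ht using Nat.le_induction with
  | base => decide
  | succ e h ih =>
    have h1 : (9 * (e + 1)) ^ 4 ≤ (10 * e) ^ 4 := Nat.pow_le_pow_left (by omega) _
    rw [show e + 1 - 1 = e - 1 + 1 by omega, pow_succ 3]
    rw [mul_pow, mul_pow] at h1
    norm_num at h1 ih ⊢
    omega

theorem pb_sq {e : ℕ} (he : 2 ≤ e) : PB.{u, v} (e ^ 2) (3 ^ (e - 1)) := by
  by_cases hp : e.Prime
  · exact pb_sq_prime hp
  by_cases h : IsPrimePow e
  swap
  · exact pb_of_not fun h' => h ((isPrimePow_pow_iff two_ne_zero).1 h')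
  rcases le_or_gt 17 e with h17 | h17
  · exact (pb_cube _).le (pow_six_le h17)
  interval_cases e <;> first | exact absurd (by decide) hp | exact absurd h (by decide +kernel) | skip
  · exact pb16
  · exact pb_two (k := 6) (by decide) (by decide +kernel) (by decide +kernel) (by decide +kernel)
  · exact pb81
  · exact pb_two (k := 8) (n := 3 ^ 15) (by decide) (by decide +kernel)
      (by decide +kernel) (by decide +kernel)

/-- class numbers of primitive solvable permutation groups -/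
theorem dixon {G : Type u} [Group G] [Finite G] (hG : Group.IsSolvable G) {H : Subgroup G}
    (hH : IsCoatom H) : RK H (3 ^ (H.index - 1)) := by
  have h1 := RK.fact H
  have h2 : ∀ n, PB.{u, u} H.index n → RK H (H.index * n) := fun n h => h.rk hG hH rfl
  generalize H.index = t at h1 h2
  rcases le_or_gt 9 t with h9 | h9
  · exact (h2 _ (pb_cube t)).le (pow_four_le h9)
  interval_cases t
  iterate 5 exact h1.le (by decide)
  · exact (h2 _ (pb_prime (by norm_num))).le (by decide)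
  · exact (h2 0 (pb_of_not (by decide))).le (by decide)
  · exact (h2 _ (pb_prime (by norm_num))).le (by decide)
  · exact (h2 _ pb8).le (by decide)

/-- the conclusion of the main theorem, on an invariant subgroup -/
def Good (G : Type*) {V : Type*} [Group G] [AddCommGroup V] [DistribMulAction G V]
    (U : AddSubgroup V) (n : ℕ) : Prop :=
  ∃ N : Subgroup G, N.Normal ∧ RK N n ∧
    (∀ x ∈ N, ∀ y ∈ N, ∀ z ∈ N, ∀ u ∈ U, ⁅⁅x, y⁆, z⁆ • u = u) ∧
    ∃ v ∈ U, ∀ x ∈ N, ∀ y ∈ N, x • v = v → y • v = v → ∀ u ∈ U, ⁅x, y⁆ • u = u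

theorem good_irr {p : ℕ} (hp : p.Prime) (k : ℕ) : ∀ (G : Type u) (V : Type v) [Group G] [Finite G]
    [AddCommGroup V] [Finite V] [DistribMulAction G V], Group.IsSolvable G → Irr G V →
      Nat.card V = p ^ k → Good G (⊤ : AddSubgroup V) (3 ^ (k - 1)) := by
  induction k using Nat.strong_induction_on with | _ k ih => ?_
  intro G V _ _ _ _ _ hG hirr hV
  rcases imprim_or_setup hG hirr with ⟨⟨I⟩⟩ | ⟨K, _, _, _, Γ, _, _, _, S, φ, hφ, -⟩
  · letI := subAct I.e.range I.inv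
    haveI := Fintype.ofFinite (G ⧸ I.H)
    obtain ⟨j, hj, a1, a2, a3⟩ := imprim_card I hp hV
    obtain ⟨N, -, h1, h2, v, -, h3⟩ := ih j (by nlinarith) I.H I.e.range inferInstance
      (I.irr hirr) hj
    have hc : ∀ x ∈ (N.map I.H.subtype).normalCore, ∀ g : G, ∃ y ∈ N, (y : G) = g⁻¹ * x * g :=
      fun x hx g => by simpa using hx g⁻¹
    refine ⟨(N.map I.H.subtype).normalCore, inferInstance,
      ((h1.coset (dixon hG I.coatom)).core le_rfl).le ?_, fun x hx y hy z hz u _ => ?_,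
      I.vec fun _ => v, trivial, fun x hx y hy hxv hyv u _ => ?_⟩
    · rw [← pow_mul, ← pow_add]
      refine Nat.pow_le_pow_right (by decide) ?_
      obtain ⟨j, rfl⟩ := Nat.exists_eq_add_of_le' a1
      rw [add_mul] at a2
      rw [Nat.add_sub_cancel]
      omega
    · refine mem_trv.1 (imprim_triv I hirr fun g u hu => ?_) u
      obtain ⟨x', hx', ex⟩ := hc x hx g
      obtain ⟨y', hy', ey⟩ := hc y hy g
      obtain ⟨z', hz', ez⟩ := hc z hz g
      have e : g⁻¹ * ⁅⁅x, y⁆, z⁆ * g = ((⁅⁅x', y'⁆, z'⁆ : I.H) : G) := by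
        simp only [commutatorElement_def, coe_mul, coe_inv, ex, ey, ez]
        group
      rw [e]
      exact congrArg Subtype.val (h2 x' hx' y' hy' z' hz' ⟨u, hu⟩ trivial)
    · refine I.triv hirr (fun ω u hu => ?_) u
      have key : ∀ x ∈ (N.map I.H.subtype).normalCore, x • I.vec (fun _ => v) = I.vec (fun _ => v) →
          ∃ y ∈ N, (y : G) = ω.out⁻¹ * x * ω.out ∧ y • v = v := by
        intro x hx hxv
        obtain ⟨y, hy, e⟩ := hc x hx ω.out
        refine ⟨y, hy, e, Subtype.ext ?_⟩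
        have h4 := I.proj (fun _ => v) ω
        change (y : G) • (v : V) = v
        conv_lhs => rw [← h4, ← I.comm _ y.2, e, ← mul_smul, mul_inv_cancel_right, mul_smul, hxv, h4]
      obtain ⟨x', hx', ex, hxv'⟩ := key x hx hxv
      obtain ⟨y', hy', ey, hyv'⟩ := key y hy hyv
      have e : ω.out⁻¹ * ⁅x, y⁆ * ω.out = ((⁅x', y'⁆ : I.H) : G) := by
        simp only [commutatorElement_def, coe_mul, coe_inv, ex, ey]
        group
      rw [← inv_smul_eq_iff, ← mul_smul, ← mul_smul, e]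
      exact congrArg Subtype.val (h3 x' hx' y' hy' hxv' hyv' ⟨u, hu⟩ trivial)
  · haveI := hirr.1
    obtain ⟨f, hK, a1, a2, a3⟩ := setup_card (K := K) hp hV
    obtain ⟨M, e, _, e1, e2, -, -, e5, e6, e7, -⟩ := qp S hp hK rfl fun e h _ _ => pb_sq h
    obtain ⟨v, hv⟩ := exists_ne (0 : V)
    refine ⟨M.comap φ, inferInstance, (e5.comap φ).le ?_, fun x hx y hy z hz u _ => ?_, v, trivial,
      fun x hx y hy hxv hyv u _ => ?_⟩
    · refine le_trans (Nat.mul_le_mul ?_ (Nat.pow_le_pow_right (by decide)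
        (Nat.sub_le_sub_right e2 1))) (a3 ▸ three_pow_mul a1 a2)
      have := Nat.lt_pow_self (n := f - 1) (show 1 < 3 by decide)
      omega
    · rw [← hφ, map_commutatorElement, map_commutatorElement, e6 _ hx _ hy _ hz, one_smul]
    · rw [← hφ, map_commutatorElement, e7 v hv _ hx _ hy ((hφ _ _).trans hxv) ((hφ _ _).trans hyv),
        one_smul]

theorem good_cr {G V : Type*} [Group G] [Finite G] [AddCommGroup V] [Finite V]
    [DistribMulAction G V] (hG : Group.IsSolvable G) (hcr : CR G V) {p k : ℕ} (hp : p.Prime)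
    (hV : Nat.card V = p ^ k) : Good G (⊤ : AddSubgroup V) (3 ^ (k - 1)) := by
  refine cr_ind hcr (fun U => ∀ k, Nat.card U = p ^ k → Good G U (3 ^ (k - 1))) (fun k _ => ?_)
    (fun U W hU hirr hW hUW ih k hk => ?_) k (by simpa using hV)
  · exact ⟨⊤, inferInstance, RK.top.le (Nat.one_le_pow _ _ (by decide)),
      fun _ _ _ _ _ _ u hu => by rw [show u = 0 from hu, smul_zero], 0, rfl,
      fun _ _ _ _ _ _ u hu => by rw [show u = 0 from hu, smul_zero]⟩
  letI := subAct U hU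
  obtain ⟨a, -, ha⟩ := (Nat.dvd_prime_pow hp).1 (hV ▸ U.card_addSubgroup_dvd_card)
  obtain ⟨b, -, hb⟩ := (Nat.dvd_prime_pow hp).1 (hV ▸ W.card_addSubgroup_dvd_card)
  rw [card_sup hUW, ha, hb, ← pow_add] at hk
  obtain rfl := Nat.pow_right_injective hp.two_le hk
  obtain ⟨N, _, h1, h2, v, -, h3⟩ := good_irr hp a G U hG hirr ha
  obtain ⟨N', _, h1', h2', v', hv', h3'⟩ := ih b hb
  have ha0 : a ≠ 0 := by
    rintro rfl
    haveI := hirr.1
    exact Finite.one_lt_card.ne' ha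
  have hsplit : ∀ g : G, g • (v + v' : V) = v + v' → g • v = v ∧ g • v' = v' := by
    intro g h4
    rw [smul_add] at h4
    have h5 : g • (v : V) - v = v' - g • v' := by rw [sub_eq_sub_iff_add_eq_add, h4, add_comm]
    have h6 : g • (v : V) - v ∈ U ⊓ W :=
      AddSubgroup.mem_inf.2 ⟨U.sub_mem (hU g _ v.2) v.2, h5 ▸ W.sub_mem hv' (hW g _ hv')⟩
    rw [hUW, AddSubgroup.mem_bot] at h6
    rw [h6] at h5
    exact ⟨Subtype.ext (sub_eq_zero.1 h6), (sub_eq_zero.1 h5.symm).symm⟩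
  refine ⟨N ⊓ N', inferInstance, (h1.inf h1').le ?_, fun x hx y hy z hz u hu => ?_, v + v',
    AddSubgroup.add_mem_sup v.2 hv', fun x hx y hy hxv hyv u hu => ?_⟩
  · rw [← pow_add]
    exact Nat.pow_le_pow_right (by decide) (by omega)
  · obtain ⟨s, hs, t, ht, rfl⟩ := AddSubgroup.mem_sup.1 hu
    rw [smul_add, h2' x hx.2 y hy.2 z hz.2 t ht]
    exact congrArg (· + t) (congrArg Subtype.val (h2 x hx.1 y hy.1 z hz.1 ⟨s, hs⟩ trivial))
  · obtain ⟨s, hs, t, ht, rfl⟩ := AddSubgroup.mem_sup.1 hu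
    rw [smul_add, h3' x hx.2 y hy.2 (hsplit x hxv).2 (hsplit y hyv).2 t ht]
    exact congrArg (· + t) (congrArg Subtype.val
      (h3 x hx.1 y hy.1 (hsplit x hxv).1 (hsplit y hyv).1 ⟨s, hs⟩ trivial))

end Cfsg.Agent.KoRo
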