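import Cfsg.Agent.KoRo.Main
import Cfsg.Agent.KoRo.Cp

/-!
# Orders of solvable linear groups modulo scalars
-/

set_option autoImplicit false
set_option linter.style.haveILetI false
set_option linter.unusedSectionVars false
set_option synthInstance.maxSize 1024
open scoped commutatorElement

namespace Cfsg.Agent.KoRo
open Subgroup SolvLin MulAction

universe u v

/-- order bound for solvable groups acting irreducibly on a module of order `w` -/
def OB (w n : ℕ) : Prop :=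
  ∀ (X : Type u) (W : Type v) [Group X] [Finite X] [AddCommGroup W] [Finite W]
    [DistribMulAction X W], Group.IsSolvable X → Irr X W → Nat.card W = w → (trv X W).index ≤ n

theorem OB.le {w a b : ℕ} (h : OB.{u, v} w a) (hab : a ≤ b) : OB.{u, v} w b :=
  fun X W _ _ _ _ _ h1 h2 h3 => (h X W h1 h2 h3).trans hab

section
variable {G V : Type*} [Group G] [AddCommGroup V] [DistribMulAction G V]

theorem index_le_of_base [Finite V] {m : ℕ} (h : HasBase G V m) :
    (trv G V).index ≤ Nat.card V ^ m := by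
  obtain ⟨t, ht⟩ := h
  rw [← relIndex_top_right]
  refine (relIndex_le_card ⊤ _ (fun g => fun i => (g : G) • t i) fun x y hxy => ?_).trans_eq
    (by rw [Nat.card_fun, Nat.card_fin])
  refine mem_trv.2 (ht _ fun i => ?_)
  have : (x : G) • t i = (y : G) • t i := congrFun hxy i
  rw [mul_smul, ← this, inv_smul_smul]

theorem gen_two [Finite V] {p : ℕ} (hp : p.Prime) (hw : Nat.card V = p ^ 2)
    (hpV : ∀ x : V, p • x = 0) {x y : V} (hx : x ≠ 0) (hy : y ∉ AddSubgroup.zmultiples x)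
    {U : AddSubgroup V} (h1 : x ∈ U) (h2 : y ∈ U) : U = ⊤ := by
  haveI := Fact.mk hp
  have h3 : Nat.card (AddSubgroup.zmultiples x) < Nat.card U :=
    Set.ncard_lt_ncard (s := (AddSubgroup.zmultiples x : Set V))
      ⟨AddSubgroup.zmultiples_le.2 h1, fun h => hy (h h2)⟩ (Set.toFinite _)
  obtain ⟨k, hk, e⟩ := (Nat.dvd_prime_pow hp).1 (hw ▸ U.card_addSubgroup_dvd_card)
  rw [Nat.card_zmultiples, addOrderOf_eq_prime (hpV _) hx, e] at h3
  refine AddSubgroup.eq_top_of_card_eq _ ?_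
  rw [e, hw]
  interval_cases k
  · exact absurd h3 (by simpa using hp.ne_zero)
  · simp at h3
  · rfl

theorem index_four [Finite G] [Finite V] (h : Nat.card V = 4) : (trv G V).index ∣ 6 := by
  classical
  letI : MulAction G {v : V // v ≠ 0} :=
    { smul := fun g v => ⟨g • v.1, act_ne_zero g v.2⟩
      one_smul := fun v => Subtype.ext (one_smul G v.1)
      mul_smul := fun a b v => Subtype.ext (mul_smul a b v.1) }
  have h1 : trv G V = (toPermHom G {v : V // v ≠ 0}).ker := by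
    ext g
    rw [mem_trv, MonoidHom.mem_ker]
    refine ⟨fun hg => Equiv.ext fun v => Subtype.ext (hg v.1), fun hg v => ?_⟩
    by_cases hv : v = 0
    · rw [hv, smul_zero]
    · exact congrArg Subtype.val (DFunLike.congr_fun hg ⟨v, hv⟩)
  have h2 : Nat.card {v : V // v ≠ 0} = 3 := by
    have := Set.ncard_compl ({0} : Set V)
    rwa [h, Set.ncard_singleton] at this
  rw [h1, index_ker]
  refine (card_subgroup_dvd_card _).trans ?_
  rw [Nat.card_perm, h2]
  rfl

end

theorem ob_cube (w : ℕ) : OB.{u, v} w (w ^ 3) :=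
  fun _ _ _ _ _ _ _ hG hirr hw => hw ▸ index_le_of_base (irr_base3 hG hirr)

theorem ob_of_not {w n : ℕ} (h : ¬ IsPrimePow w) : OB.{u, v} w n := by
  intro G V _ _ _ _ _ _ hirr hw
  obtain ⟨p, k, hp, hk, e⟩ := irr_card hirr
  exact absurd ⟨p, k, hp.prime, hk, e.symm.trans hw⟩ h

theorem ob_prime {p : ℕ} (hp : p.Prime) : OB.{u, v} p (p - 1) := by
  intro G V _ _ _ _ _ _ hirr hw
  haveI := hirr.1
  obtain ⟨x, hx⟩ := exists_ne (0 : V)
  rw [← relIndex_top_right]
  refine (relIndex_le_card ⊤ _ (fun g => (⟨(g : G) • x, act_ne_zero _ hx⟩ : ({0}ᶜ : Set V)))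
    fun a b hab => mem_trv.2 fun v => ?_).trans_eq ?_
  · haveI := Fact.mk hp
    have h1 : (a : G) • x = (b : G) • x := congrArg Subtype.val hab
    have h2 := (AddSubgroup.eq_bot_or_eq_top_of_prime_card (hp := ⟨hw ▸ hp⟩)
      (fx V ((a : G)⁻¹ * b))).resolve_left fun h => hx (by
        have : x ∈ fx V ((a : G)⁻¹ * b) := by
          change _ • x = x
          rw [mul_smul, ← h1, inv_smul_smul]
        rwa [h] at this)
    exact (h2 ▸ AddSubgroup.mem_top v : v ∈ fx V _)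
  · have := Set.ncard_compl ({0} : Set V)
    rwa [hw, Set.ncard_singleton] at this

theorem ob_prime_sq {p : ℕ} (hp : p.Prime) : OB.{u, v} (p ^ 2) ((p ^ 2) ^ 2) := by
  intro G V _ _ _ _ _ _ hirr hw
  haveI := hirr.1
  haveI := Fact.mk hp
  have hpV : ∀ x : V, p • x = 0 := hirr.nsmul_eq_zero hp (hw ▸ dvd_pow_self p two_ne_zero)
  obtain ⟨x, hx⟩ := exists_ne (0 : V)
  obtain ⟨y, hy⟩ : ∃ y, y ∉ AddSubgroup.zmultiples x := by
    by_contra h
    push Not at h
    have := Nat.card_zmultiples x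
    rw [(AddSubgroup.eq_top_iff' _).2 h, AddSubgroup.card_top, hw,
      addOrderOf_eq_prime (hpV _) hx] at this
    nlinarith [hp.two_le]
  refine hw ▸ index_le_of_base ⟨![x, y], fun g hg v => ?_⟩
  exact (gen_two hp hw hpV hx hy (U := fx V g) (hg 0) (hg 1) ▸ AddSubgroup.mem_top v : v ∈ fx V g)

/-- bound for the index of the scalars in the linear part -/
def β (e : ℕ) : ℕ :=
  if e ≤ 1 then 1 else if e = 2 then 24 else if e = 3 then 216 else if e = 4 then 1152
    else 3 * 9 ^ (e - 1) - 1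

theorem β_lt (e : ℕ) : β e < 3 * 9 ^ (e - 1) := by
  have : 0 < 9 ^ (e - 1) := by positivity
  unfold β
  split_ifs with h1 h2 h3 h4 <;> first | omega | (subst_vars; decide)

theorem β_mul {a b : ℕ} (ha : 2 ≤ a) (hb : 1 ≤ b) : β a * β b ≤ β (a * b) := by
  rcases hb.eq_or_lt with rfl | hb
  · simp [β]
  by_cases h : a * b ≤ 4
  · obtain rfl : a = 2 := by nlinarith
    obtain rfl : b = 2 := by omega
    decide
  have h1 := Nat.mul_le_mul (β_lt a).le (β_lt b).le
  have h2 : 9 ^ (a - 1) * 9 ^ (b - 1) * 9 ≤ 9 ^ (a * b - 1) := by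
    rw [← pow_add, ← pow_succ]
    refine Nat.pow_le_pow_right (by decide) ?_
    obtain ⟨a, rfl⟩ := Nat.exists_eq_add_of_le' ha
    obtain ⟨b, rfl⟩ := Nat.exists_eq_add_of_le' (show 2 ≤ b from hb)
    have : (a + 2) * (b + 2) = a * b + 2 * a + 2 * b + 4 := by ring
    omega
  have h3 : β (a * b) = 3 * 9 ^ (a * b - 1) - 1 := by
    unfold β
    split_ifs <;> omega
  have : 0 < 9 ^ (a * b - 1) := by positivity
  rw [mul_mul_mul_comm] at h1
  omega

/-- the linear elements -/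
def lin (K V G : Type*) [Field K] [AddCommGroup V] [Module K V] [Group G] [DistribMulAction G V] :
    Subgroup G where
  carrier := {g | ∀ (c : K) (v : V), g • c • v = c • g • v}
  mul_mem' := fun {a b} ha hb c v => by rw [mul_smul, mul_smul, hb, ha]
  one_mem' := fun c v => by rw [one_smul, one_smul]
  inv_mem' := fun {a} ha c v => by rw [inv_smul_eq_iff, ha, smul_inv_smul]

section
variable {K V Γ M : Type*} [Field K] [AddCommGroup V] [Module K V] [Group Γ]
  [DistribMulAction Γ V] [Group M] [DistribMulAction M V] (H : Heis K V Γ M)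

theorem A_eq : H.A = lin K V Γ := by
  ext g
  refine (mem_A_iff H).trans ⟨fun h c v => ?_, fun h c => h c⟩
  by_cases hc : c = 0
  · simp [hc]
  · exact h (Units.mk0 c hc) v

theorem index_lin (hs : ∀ g : Γ, ∃ σ : K →+* K, ∀ (c : K) (v : V), g • c • v = σ c • g • v)
    [Finite K] [Nontrivial V] (F : Subfield K)
    (hF : ∀ (g : Γ), ∀ c ∈ F, ∀ v : V, g • c • v = c • g • v) :
    (lin K V Γ).index ≤ Module.finrank F K := by
  choose σ hσ using hs
  obtain ⟨v, hv⟩ := exists_ne (0 : V)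
  rw [← relIndex_top_right]
  refine (relIndex_le_card ⊤ _ (fun g => ({ σ g with
    commutes' := fun r => smul_cancel (act_ne_zero (g : Γ) hv)
      ((hσ g r v).symm.trans (hF g r r.2 v)) } : K →ₐ[F] K)) fun x y hxy c v => ?_).trans
    (card_algHom_le_finrank _ _ _)
  have : σ x c = σ y c := DFunLike.congr_fun hxy (c : K)
  rw [mul_smul, mul_smul, inv_smul_eq_iff, hσ, hσ, smul_inv_smul, this]

theorem symp9 [Finite Γ] [Finite M] (U : AddSubgroup H.W) (hU : Inv Γ U)
    (hirr : letI := subAct U hU; Irr Γ U) (h9 : Nat.card U = 3 ^ 2) :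
    (fixingSubgroup Γ (U : Set H.W)).relIndex H.A ≤ 24 := by
  letI := subAct U hU
  obtain ⟨x, hx, y, hy, hxy⟩ : ∃ x ∈ H.msub U, ∃ y ∈ H.msub U, H.b x y ≠ 1 := by
    by_contra h
    push Not at h
    haveI := hirr.1
    obtain ⟨u, hu⟩ := exists_ne (0 : U)
    obtain ⟨x, hx⟩ := H.wm_surj u
    exact hu (Subtype.ext (hx ▸ H.wm_eq_zero.2 (H.noiso _ (fun g x hx => hU g _ hx) h
      (H.mem_msub.2 (hx ▸ u.2)))))
  have hb : ∀ {a b : M}, H.wm a = H.wm b → ∀ z, H.b z a = H.b z b := fun {a b} h z => by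
    have := H.b_Z_right (H.wm_eq_iff.1 h) z
    rwa [map_mul, map_inv, inv_mul_eq_one] at this
  let x' : U := ⟨H.wm x, hx⟩
  let y' : U := ⟨H.wm y, hy⟩
  let D : AddSubgroup U := (Subgroup.toAddSubgroup
    ((H.b x).ker.map (QuotientGroup.mk' H.s.range))).comap U.subtype
  have hD : ∀ (a : M) (ha : H.wm a ∈ U), (⟨H.wm a, ha⟩ : U) ∈ D ↔ H.b x a = 1 := fun a ha =>
    ⟨fun ⟨b, h1, h2⟩ => (hb (a := b) h2 x).symm.trans h1, fun h => ⟨a, h, rfl⟩⟩
  have hD3 : Nat.card D ≤ 3 := by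
    obtain ⟨k, hk, e⟩ := (Nat.dvd_prime_pow Nat.prime_three).1 (h9 ▸ D.card_addSubgroup_dvd_card)
    have : k ≠ 2 := fun h => hxy ((hD y hy).1 (AddSubgroup.eq_top_of_card_eq D
      (by rw [e, h9, h]) ▸ AddSubgroup.mem_top _))
    rw [e]
    interval_cases k <;> omega
  have hx0 : x' ≠ 0 := fun h => hxy (H.b_Z_left (H.wm_eq_zero.1 (congrArg Subtype.val h)) y)
  have hy0 : y' ∉ AddSubgroup.zmultiples x' := fun h =>
    hxy ((hD y hy).1 (AddSubgroup.zmultiples_le.2 ((hD x hx).2 (H.b_self x)) h))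
  let P := H.A ⊓ stabilizer Γ x'
  have h1 : P.relIndex H.A ≤ 8 := by
    refine (relIndex_le_card _ _ (fun g => (⟨(g : Γ) • x', act_ne_zero _ hx0⟩ : ({0}ᶜ : Set U)))
      fun a b hab => mem_inf.2 ⟨mul_mem (inv_mem a.2) b.2, ?_⟩).trans_eq ?_
    · have : (a : Γ) • x' = (b : Γ) • x' := congrArg Subtype.val hab
      change _ • x' = x'
      rw [mul_smul, ← this, inv_smul_smul]
    · have := Set.ncard_compl ({0} : Set U)
      rwa [h9, Set.ncard_singleton] at this
  have h2 : (fixingSubgroup Γ (U : Set H.W) ⊓ P).relIndex P ≤ 3 := by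
    rw [inf_relIndex_right]
    refine (relIndex_le_card _ _ (fun g => (⟨-y' + (g : Γ) • y', ?_⟩ : D))
      fun a b hab => (mem_fixingSubgroup_iff Γ).2 fun u hu => ?_).trans hD3
    · refine (hD (y⁻¹ * H.κ g y) (-y' + (g : Γ) • y').2).2 ?_
      have a1 := H.κ_b g x y
      rw [g.2.1, H.b_swap _ (H.κ g x), hb (a := H.κ g x) (b := x) (congrArg Subtype.val g.2.2),
        ← H.b_swap] at a1
      rw [map_mul, map_inv, H.s_inj a1, inv_mul_cancel]
    · have a1 : (a : Γ) • y' = (b : Γ) • y' := add_left_cancel (congrArg Subtype.val hab)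
      have a2 := gen_two Nat.prime_three h9 (hirr.nsmul_eq_zero Nat.prime_three (by rw [h9]; decide))
        hx0 hy0 (U := fx U ((a : Γ)⁻¹ * b)) (a⁻¹ * b).2.2 (by
          change _ • y' = y'
          rw [mul_smul, ← a1, inv_smul_smul])
      exact congrArg Subtype.val (a2 ▸ AddSubgroup.mem_top _ : (⟨u, hu⟩ : U) ∈ fx U _)
  refine (relIndex_le_of_le_left (inf_le_left (b := P)) FiniteIndex.index_ne_zero).trans ?_
  rw [← relIndex_mul_relIndex _ P _ inf_le_right inf_le_left]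
  exact Nat.mul_le_mul h2 h1

end

theorem rel_W {K V : Type*} {Γ : Type v} [Field K] [Finite K] [AddCommGroup V] [Module K V]
    [Group Γ] [Finite Γ] [DistribMulAction Γ V] {M : Subgroup Γ} (H : Heis K V Γ M)
    (hS : Group.IsSolvable Γ) {d : ℕ} (hd : Nat.card H.W ≤ d ^ 2)
    (hob : ∀ e, 4 ≤ e → e ≤ d → ¬ e.Coprime (Nat.card Kˣ) →
      ∃ c, OB.{v, v} (e ^ 2) c ∧ e ^ 2 * c ≤ β e) :
    ∃ e, Nat.card H.W = e ^ 2 ∧ e ^ 2 * (trv Γ H.W).relIndex H.A ≤ β e := by
  obtain ⟨e, h1, h2⟩ := cr_ind H.W_cr (fun U => ∃ e, Nat.card U = e ^ 2 ∧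
      e ^ 2 * (fixingSubgroup Γ (U : Set H.W)).relIndex H.A ≤ β e)
    ⟨1, by simp, by
      rw [relIndex_eq_one.2 fun g _ => (mem_fixingSubgroup_iff Γ).2 fun w hw => by
        rw [show w = 0 from hw, smul_zero]]
      decide⟩ (by
    rintro U W hU hirr hW hUW ⟨b, hb, hb'⟩
    letI := subAct U hU
    obtain ⟨a, ha⟩ := card_sq H U hU
    haveI := hirr.1
    have h1 : 1 < a ^ 2 := ha ▸ Finite.one_lt_card
    have h2 : 2 ≤ a := by
      by_contra h
      have : a ≤ 1 := by omega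
      interval_cases a <;> simp at h1
    have h3 : a ^ 2 ∣ Nat.card H.W := ha ▸ U.card_addSubgroup_dvd_card
    have h4 : 1 ≤ b := Nat.pos_of_ne_zero fun h => by
      rw [h] at hb
      exact Nat.card_pos.ne' hb
    have h6 : (fixingSubgroup Γ (U : Set H.W)).relIndex H.A ≤ (trv Γ U).index := by
      refine (relIndex_le_of_le_right le_top FiniteIndex.index_ne_zero).trans ?_
      rw [relIndex_top_right]
      exact index_antitone fun g hg => (mem_fixingSubgroup_iff Γ).2 fun w hw =>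
        congrArg Subtype.val (mem_trv.1 hg ⟨w, hw⟩)
    have h5 : a ^ 2 * (fixingSubgroup Γ (U : Set H.W)).relIndex H.A ≤ β a := by
      rcases le_or_gt 4 a with h | h
      · obtain ⟨c, hc, hc'⟩ := hob a h ((Nat.pow_le_pow_iff_left two_ne_zero).1
          ((Nat.le_of_dvd Nat.card_pos h3).trans hd))
          (not_coprime H h2 ((dvd_pow_self a two_ne_zero).trans h3))
        exact (Nat.mul_le_mul_left _ (h6.trans (hc Γ U hS hirr ha))).trans hc'
      interval_cases a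
      · exact Nat.mul_le_mul_left (2 ^ 2) (h6.trans (Nat.le_of_dvd (by decide) (index_four ha)))
      · exact Nat.mul_le_mul_left (3 ^ 2) (symp9 H U hU hirr ha)
    refine ⟨a * b, by rw [card_sup hUW, ha, hb, mul_pow], le_trans ?_
      ((Nat.mul_le_mul h5 hb').trans (β_mul h2 h4))⟩
    rw [mul_mul_mul_comm, mul_pow]
    refine Nat.mul_le_mul_left _ (le_trans (relIndex_le_of_le_left (fun g hg =>
      (mem_fixingSubgroup_iff Γ).2 fun w hw => ?_) FiniteIndex.index_ne_zero) relIndex_inf_le)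
    obtain ⟨x, hx, y, hy, rfl⟩ := AddSubgroup.mem_sup.1 hw
    rw [smul_add, (mem_fixingSubgroup_iff Γ).1 hg.2 y hy, (mem_fixingSubgroup_iff Γ).1 hg.1 x hx])
  refine ⟨e, by simpa using h1, le_trans (Nat.mul_le_mul_left _ (relIndex_le_of_le_left
    (fun g hg => mem_trv.2 fun w => (mem_fixingSubgroup_iff Γ).1 hg w trivial)
    FiniteIndex.index_ne_zero)) h2⟩

theorem qp2 {K V : Type*} {Γ : Type v} [Field K] [Finite K] [AddCommGroup V] [Finite V]
    [Module K V] [Group Γ] [Finite Γ] [DistribMulAction Γ V] (S : Setup K V Γ) {p f d : ℕ}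
    (hp : p.Prime) (hK : Nat.card K = p ^ f) (hd : Module.finrank K V = d)
    (hob : ∀ e, 4 ≤ e → e ≤ d → ¬ e.Coprime (p ^ f - 1) →
      ∃ c, OB.{v, v} (e ^ 2) c ∧ e ^ 2 * c ≤ β e) :
    (∀ g : Γ, ∃ σ : K →+* K, ∀ (c : K) (v : V), g • c • v = σ c • g • v) ∧
    (lin K V Γ).index ≤ f ∧ ∃ e, 1 ≤ e ∧ e ≤ d ∧ (2 ≤ e → ¬ e.Coprime (p ^ f - 1)) ∧
      S.s.range.relIndex (lin K V Γ) ≤ β e ∧ (e = 2 → lin K V Γ = ⊤ → S.s.range.index ∣ 24 ∧
        ∀ g : Γ, g ^ 4 ∈ S.s.range ∨ g ^ 3 ∈ S.s.range) := by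
  obtain ⟨M, H, -⟩ := S.exists_heis
  have hu : Nat.card Kˣ = p ^ f - 1 := by rw [Nat.card_units, hK]
  have hW := card_W_le H
  rw [hd] at hW
  obtain ⟨e, he, hrk⟩ := rel_W H S.solv hW (hu ▸ hob)
  have hext : ∀ x y : Γ, (∀ v : V, x • v = y • v) → x = y := fun x y h =>
    (inv_mul_eq_one.1 (S.faithful (y⁻¹ * x) fun v => by rw [mul_smul, h, inv_smul_smul])).symm
  have hAM : trv Γ H.W ⊓ H.A ≤ M := fun g hg => by
    obtain ⟨m, hm⟩ := H.inner' hg.2 (mem_trv.1 hg.1)
    exact hext _ _ hm ▸ m.2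
  have hs : ∀ c, (H.s c : Γ) = S.s c := fun c => hext _ _ fun v =>
    (H.s_smul c v).trans (S.s_smul c v).symm
  have hZ : H.s.range = S.s.range.subgroupOf M := by
    ext x
    exact ⟨fun ⟨c, h⟩ => ⟨c, by rw [← hs, h]; rfl⟩, fun ⟨c, h⟩ => ⟨c, Subtype.ext ((hs c).trans h)⟩⟩
  have hZM : S.s.range ≤ M := fun _ ⟨c, h⟩ => h ▸ hs c ▸ (H.s c).2
  have hMA : M ≤ H.A := fun m hm => A_eq H ▸ H.lin ⟨m, hm⟩
  have hκ : ∀ (g : Γ) (m : M), (H.κ g m : Γ) = g * m * g⁻¹ := fun g m => hext _ _ fun v => by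
    have := H.κ_smul g m (g⁻¹ • v)
    rw [smul_inv_smul] at this
    rw [mul_smul, mul_smul]
    exact this.symm
  have hMT : M ≤ trv Γ H.W := fun m hm => mem_trv.2 fun w => by
    obtain ⟨x, rfl⟩ := H.wm_surj w
    rw [H.wm_smul, show H.κ m x = ⟨m, hm⟩ * x * (⟨m, hm⟩ : M)⁻¹ from Subtype.ext (hκ m x),
      H.wm_mul, H.wm_mul, H.wm_inv]
    abel
  have hi : S.s.range.relIndex H.A = e ^ 2 * (trv Γ H.W).relIndex H.A := by
    rw [← relIndex_mul_relIndex _ M _ hZM hMA, ← he, ← inf_relIndex_right (trv Γ H.W),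
      le_antisymm hAM (le_inf hMT hMA), relIndex, ← hZ]
    rfl
  refine ⟨exists_sig H, A_eq H ▸ index_A H hp hK, e, Nat.pos_of_ne_zero fun h => ?_,
    (Nat.pow_le_pow_iff_left two_ne_zero).1 (he ▸ hW),
    fun h => hu ▸ not_coprime H h (he ▸ dvd_pow_self e two_ne_zero), by rwa [← A_eq H, hi],
    fun h hA => ?_⟩
  · rw [h] at he
    exact Nat.card_pos.ne' he
  subst h
  rw [← A_eq H] at hA
  rw [hA, relIndex_top_right, relIndex_top_right] at hi
  refine ⟨hi ▸ Nat.mul_dvd_mul_left (2 ^ 2) (index_four he), fun g => ?_⟩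
  have h2 : ∀ w : H.W, w + w = 0 := by
    intro w
    obtain ⟨r, hr, -, hr'⟩ := H.exists_exp
    obtain ⟨x, rfl⟩ := H.wm_surj w
    have a1 : addOrderOf (H.wm x) ∣ r := addOrderOf_dvd_of_nsmul_eq_zero (H.wm_eq_zero.2 (hr' x))
    have a2 : addOrderOf (H.wm x) ∣ 2 ^ 2 := he ▸ addOrderOf_dvd_natCard _
    rw [← two_nsmul, ← addOrderOf_dvd_iff_nsmul_eq_zero]
    exact ((hr.squarefree_of_dvd a1).dvd_pow_iff_dvd two_ne_zero).1 a2
  haveI : IsAddKleinFour H.W := ⟨he, by
    haveI : Nontrivial H.W := Finite.one_lt_card_iff_nontrivial.1 (by rw [he]; decide)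
    exact (AddMonoid.exponent_eq_prime_iff Nat.prime_two).2 fun w hw =>
      addOrderOf_eq_prime (by rw [two_nsmul, h2]) hw⟩
  have hM : ∀ g : Γ, (∀ w : H.W, g • w = w) → g ∈ M := fun g hg =>
    hAM ⟨mem_trv.2 hg, hA ▸ mem_top g⟩
  have hz : ∀ m : M, H.wm m = 0 → (m : Γ) ∈ S.s.range := fun m hm =>
    (hZ ▸ H.wm_eq_zero.1 hm : m ∈ S.s.range.subgroupOf M)
  by_cases h : ∃ w : H.W, w ≠ 0 ∧ g • w = w
  · obtain ⟨w, hw, hg⟩ := h
    have h3 : g ^ 2 ∈ M := hM _ fun u => by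
      rw [sq, mul_smul]
      by_cases h1 : g • u = u
      · rw [h1, h1]
      have hu0 : u ≠ 0 := fun h => h1 (by rw [h, smul_zero])
      have huw : u ≠ w := fun h => h1 (by rw [h, hg])
      have := IsAddKleinFour.eq_add_of_ne_all hu0 hw huw (act_ne_zero g hu0) h1
        fun h => huw (MulAction.injective g (h.trans hg.symm))
      rw [this, smul_add, this, hg, add_assoc, h2, add_zero]
    left
    have := hz (⟨_, h3⟩ * ⟨_, h3⟩) (by rw [H.wm_mul, h2])
    rwa [coe_mul, ← pow_add] at this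
  · push Not at h
    have h3 : g ^ 3 ∈ M := hM _ fun u => by
      by_cases hu0 : u = 0
      · rw [hu0, smul_zero]
      have a1 := act_ne_zero g hu0
      have a2 : g • g • u = u + g • u := by
        refine IsAddKleinFour.eq_add_of_ne_all hu0 a1 (h u hu0).symm (act_ne_zero g a1)
          (fun e => h (u + g • u) (fun e' => h u hu0 ?_) ?_) (h _ a1)
        · rw [← add_left_cancel_iff (a := u), e', h2]
        · rw [smul_add, e, add_comm]
      rw [pow_succ', sq, mul_smul, mul_smul, a2, smul_add, a2, add_left_comm, h2, add_zero]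
    right
    refine hz ⟨_, h3⟩ (by_contra fun h0 => h _ h0 ?_)
    rw [H.wm_smul]
    exact congrArg H.wm (Subtype.ext (by rw [hκ]; group))

end Cfsg.Agent.KoRo
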