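import Cfsg.Agent.KoRo.Base
import Cfsg.Agent.SolvLin.DL2

/-!
# Class numbers of small irreducible solvable linear groups
-/

set_option autoImplicit false
set_option linter.style.haveILetI false
set_option linter.unusedSectionVars false

namespace Cfsg.Agent.KoRo
open Subgroup SolvLin

universe u v

/-- bound for solvable groups acting irreducibly on a module of order `w` -/
def PB (w n : ℕ) : Prop :=
  ∀ (X : Type u) (W : Type v) [Group X] [Finite X] [AddCommGroup W] [Finite W]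
    [DistribMulAction X W], Group.IsSolvable X → Irr X W → Nat.card W = w → RK (trv X W) n

theorem PB.le {w a b : ℕ} (h : PB.{u, v} w a) (hab : a ≤ b) : PB.{u, v} w b :=
  fun X W _ _ _ _ _ h1 h2 h3 => (h X W h1 h2 h3).le hab

section
variable {G V : Type*} [Group G] [AddCommGroup V] [DistribMulAction G V]

instance trv_normal {G V : Type*} [Group G] [MulAction G V] : (trv G V).Normal :=
  ⟨fun n hn g => mem_trv.2 fun w => by rw [mul_smul, mul_smul, mem_trv.1 hn, smul_inv_smul]⟩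

theorem irr_card [Finite V] (h : Irr G V) : ∃ p k : ℕ, p.Prime ∧ 1 ≤ k ∧ Nat.card V = p ^ k := by
  haveI := h.1
  have h1 : Nat.card V ≠ 1 := Finite.one_lt_card.ne'
  refine ⟨_, (Nat.card V).primeFactorsList.length, Nat.minFac_prime h1, ?_, ?_⟩
  · rw [Nat.one_le_iff_ne_zero, Ne, List.length_eq_zero_iff, Nat.primeFactorsList_eq_nil]
    have : 0 < Nat.card V := Nat.card_pos
    omega
  refine Nat.eq_prime_pow_of_unique_prime_dvd Nat.card_pos.ne' fun {q} hq hd => ?_
  obtain ⟨x, hx⟩ := exists_ne (0 : V)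
  have a1 := addOrderOf_dvd_of_nsmul_eq_zero (h.nsmul_eq_zero hq hd x)
  have a2 := addOrderOf_dvd_of_nsmul_eq_zero
    (h.nsmul_eq_zero (Nat.minFac_prime h1) (Nat.minFac_dvd _) x)
  have a3 : addOrderOf x ≠ 1 := fun e => hx (AddMonoid.addOrderOf_eq_one_iff.1 e)
  rw [← (hq.eq_one_or_self_of_dvd _ a1).resolve_left a3,
    ← ((Nat.minFac_prime h1).eq_one_or_self_of_dvd _ a2).resolve_left a3]

theorem cr_ind [Finite V] (hcr : CR G V) (P : AddSubgroup V → Prop) (h0 : P ⊥)
    (h1 : ∀ (U W : AddSubgroup V) (hU : Inv G U), (letI := subAct U hU; Irr G U) → Inv G W →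
      U ⊓ W = ⊥ → P W → P (U ⊔ W)) : P ⊤ := by
  suffices key : ∀ (n : ℕ) (U : AddSubgroup V), Inv G U → Nat.card U = n → P U from
    key _ ⊤ (fun _ _ _ => trivial) rfl
  intro n
  induction n using Nat.strong_induction_on with | _ n ih => ?_
  intro U hU hn
  by_cases hU0 : U = ⊥
  · exact hU0 ▸ h0
  obtain ⟨U1, -, ⟨hU1, hU1U, hU10⟩, hmin⟩ := Finite.exists_le_minimal
    (p := fun W : AddSubgroup V => Inv G W ∧ W ≤ U ∧ W ≠ ⊥) ⟨hU, le_rfl, hU0⟩
  letI := subAct U1 hU1
  have hirr : Irr G U1 := by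
    refine ⟨(AddSubgroup.nontrivial_iff_ne_bot U1).2 hU10, fun W hW => ?_⟩
    by_cases hW0 : W = ⊥
    · exact Or.inl hW0
    right
    have h1 := hmin (y := W.map U1.subtype) ⟨?_, (AddSubgroup.map_subtype_le W).trans hU1U, ?_⟩
      (AddSubgroup.map_subtype_le W)
    · rw [eq_top_iff]
      intro u _
      obtain ⟨w, hw, hwu⟩ := h1 u.2
      rwa [← Subtype.ext hwu]
    · rintro g _ ⟨w, hw, rfl⟩
      exact ⟨_, hW g w hw, rfl⟩
    · rwa [Ne, AddSubgroup.map_eq_bot_iff_of_injective _ Subtype.val_injective]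
  obtain ⟨W, hW, hinf, hsup⟩ := hcr U1 hU1
  have hlt : W ⊓ U < U := by
    refine lt_of_le_of_ne inf_le_right fun h2 => hU10 ?_
    rw [eq_bot_iff, ← hinf]
    exact le_inf le_rfl (hU1U.trans (h2 ▸ inf_le_left))
  have hWU : Inv G (W ⊓ U) := fun g v hv => ⟨hW g v hv.1, hU g v hv.2⟩
  have h2 := h1 U1 (W ⊓ U) hU1 hirr hWU (by rw [← inf_assoc, hinf, bot_inf_eq])
    (ih (Nat.card (W ⊓ U : AddSubgroup V)) (hn ▸ Set.ncard_lt_ncard hlt (Set.toFinite _)) _ hWU rfl)
  rwa [← sup_inf_assoc_of_le _ hU1U, hsup, top_inf_eq] at h2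

theorem card_sup {U W : AddSubgroup V} (h : U ⊓ W = ⊥) :
    Nat.card (U ⊔ W : AddSubgroup V) = Nat.card U * Nat.card W := by
  rw [← Nat.card_prod]
  refine (Nat.card_eq_of_bijective
    (fun x : U × W => (⟨x.1 + x.2, AddSubgroup.add_mem_sup x.1.2 x.2.2⟩ : (U ⊔ W : AddSubgroup V)))
    ⟨fun x y hxy => ?_, fun z => ?_⟩).symm
  · have h1 : (x.1 : V) + x.2 = y.1 + y.2 := congrArg Subtype.val hxy
    have h2 : (x.1 : V) - y.1 = y.2 - x.2 := by rw [sub_eq_sub_iff_add_eq_add, h1, add_comm]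
    have h3 : (x.1 : V) - y.1 ∈ U ⊓ W := ⟨U.sub_mem x.1.2 y.1.2, h2 ▸ W.sub_mem y.2.2 x.2.2⟩
    rw [h, AddSubgroup.mem_bot] at h3
    rw [h3] at h2
    exact Prod.ext (Subtype.ext (sub_eq_zero.1 h3)) (Subtype.ext (sub_eq_zero.1 h2.symm).symm)
  · obtain ⟨a, ha, b, hb, e⟩ := AddSubgroup.mem_sup.1 z.2
    exact ⟨(⟨a, ha⟩, ⟨b, hb⟩), Subtype.ext e⟩

end

theorem pb_of_faithful {w n : ℕ} (h : ∀ (X W : Type v) [Group X] [Finite X] [AddCommGroup W]
    [Finite W] [DistribMulAction X W], Group.IsSolvable X → Irr X W → Nat.card W = w →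
      (∀ g : X, (∀ v : W, g • v = v) → g = 1) → SK X n) : PB.{u, v} w n := by
  intro G V _ _ _ _ _ hG hirr hw
  let ρ : G →* (AddMonoid.End V)ˣ := (DistribMulAction.toAddMonoidEnd G V).toHomUnits
  refine RK.of_hom (h ρ.range V (Group.isSolvable_of_surjective ρ.rangeRestrict_surjective)
    ⟨hirr.1, fun U hU => hirr.2 U fun g v hv => hU (ρ.rangeRestrict g) v hv⟩ hw
    fun g hg => Subtype.ext (Units.ext (AddMonoidHom.ext hg))) ρ.rangeRestrict
    fun g hg => mem_trv.2 fun v => ?_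
  change ρ.rangeRestrict g • v = v
  rw [show ρ.rangeRestrict g = 1 from hg, one_smul]

theorem pb_of_not {w n : ℕ} (h : ¬ IsPrimePow w) : PB.{u, v} w n := by
  intro G V _ _ _ _ _ _ hirr hw
  obtain ⟨p, k, hp, hk, e⟩ := irr_card hirr
  exact absurd ⟨p, k, hp.prime, hk, e.symm.trans hw⟩ h

theorem pb_cube (w : ℕ) : PB.{u, v} w (w ^ 3) := by
  intro G V _ _ _ _ _ hG hirr hw
  obtain ⟨t, ht⟩ := irr_base3 hG hirr
  refine RK.of_index ?_
  rw [← relIndex_top_right, ← hw]
  refine (relIndex_le_card ⊤ _ (fun g => fun i => (g : G) • t i) fun x y hxy => ?_).trans_eq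
    (by rw [Nat.card_fun, Nat.card_fin])
  refine mem_trv.2 (ht _ fun i => ?_)
  have : (x : G) • t i = (y : G) • t i := congrFun hxy i
  rw [mul_smul, ← this, inv_smul_smul]

theorem card_le_of_free {X W : Type*} [Group X] [AddCommGroup W] [Finite W] [DistribMulAction X W]
    (S : Set X) {v : W} (hv : v ≠ 0) (h : ∀ x ∈ S, ∀ y ∈ S, x • v = y • v → x = y) :
    S.ncard ≤ Nat.card W - 1 := by
  have h1 := Set.ncard_le_ncard_of_injOn (t := {0}ᶜ) (fun x : X => x • v)
    (fun x _ => act_ne_zero x hv) h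
  rwa [Set.ncard_compl, Set.ncard_singleton] at h1

theorem pb_prime {p : ℕ} (hp : p.Prime) : PB.{u, v} p (p - 1) := by
  refine pb_of_faithful fun X W _ _ _ _ _ _ hirr hw hf => SK.of_card ?_
  obtain ⟨x, hx⟩ := exists_gen_of_prime (hw ▸ hp)
  have hx0 : x ≠ 0 := by
    rintro rfl
    haveI := hirr.1
    obtain ⟨y, hy⟩ := exists_ne (0 : W)
    obtain ⟨k, rfl⟩ := hx y
    exact hy (smul_zero k)
  rw [← Set.ncard_univ, ← hw]
  refine card_le_of_free _ hx0 fun a _ b _ hab => (inv_mul_eq_one.1 (hf _ fun v => ?_)).symm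
  obtain ⟨k, rfl⟩ := hx v
  rw [smul_comm, mul_smul, hab, inv_smul_smul]

theorem pb_prime_sq {p : ℕ} (hp : p.Prime) : PB.{u, v} (p ^ 2) (p ^ 2 + p - 3) := by
  refine pb_of_faithful fun X W _ _ _ _ _ _ hirr hw hf => ?_
  haveI := Fact.mk hp
  have hpW : ∀ x : W, p • x = 0 := hirr.nsmul_eq_zero hp (hw ▸ dvd_pow_self p two_ne_zero)
  have hord : ∀ {x : W}, x ≠ 0 → Nat.card (AddSubgroup.zmultiples x) = p := fun hx => by
    rw [Nat.card_zmultiples, addOrderOf_eq_prime (hpW _) hx]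
  -- two independent vectors generate
  have hgen : ∀ x y : W, x ≠ 0 → y ∉ AddSubgroup.zmultiples x → ∀ z : W, ∃ i j : ℤ,
      z = i • x + j • y := by
    intro x y hx hy z
    have h1 : AddSubgroup.zmultiples x ⊔ AddSubgroup.zmultiples y = ⊤ := by
      have h2 := AddSubgroup.card_addSubgroup_dvd_card
        (AddSubgroup.zmultiples x ⊔ AddSubgroup.zmultiples y)
      have h3 : Nat.card (AddSubgroup.zmultiples x) <
          Nat.card (AddSubgroup.zmultiples x ⊔ AddSubgroup.zmultiples y : AddSubgroup W) :=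
        Set.ncard_lt_ncard (s := (AddSubgroup.zmultiples x : Set W))
          (lt_of_le_of_ne (le_sup_left (b := AddSubgroup.zmultiples y)) fun e =>
            hy (by
              have : y ∈ ((AddSubgroup.zmultiples x ⊔ AddSubgroup.zmultiples y : AddSubgroup W) :
                Set W) := AddSubgroup.mem_sup_right (AddSubgroup.mem_zmultiples y)
              rwa [← e] at this)) (Set.toFinite _)
      rw [hw] at h2
      obtain ⟨k, hk, e⟩ := (Nat.dvd_prime_pow hp).1 h2
      rw [hord hx, e] at h3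
      refine AddSubgroup.eq_top_of_card_eq _ ?_
      rw [e, hw]
      interval_cases k
      · exact absurd h3 (by simpa using hp.ne_zero)
      · simp at h3
      · rfl
    obtain ⟨_, ⟨i, rfl⟩, _, ⟨j, rfl⟩, e⟩ := AddSubgroup.mem_sup.1 (h1 ▸ AddSubgroup.mem_top z)
    exact ⟨i, j, e.symm⟩
  have hfix : ∀ (g : X) (x y : W), x ≠ 0 → y ∉ AddSubgroup.zmultiples x → g • x = x → g • y = y →
      g = 1 := by
    intro g x y hx hy h1 h2
    refine hf g fun z => ?_
    obtain ⟨i, j, rfl⟩ := hgen x y hx hy z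
    rw [smul_add, smul_comm g i, smul_comm g j, h1, h2]
  have h2 := hp.two_le
  have h4 : 4 ≤ p ^ 2 := by nlinarith
  refine (SK.avg {g : X | ∀ v : W, g • v ∈ AddSubgroup.zmultiples v} (a := p - 1) (c := p ^ 2 - 1)
    (fun v => by simp) ?_ (by omega) fun g hg => ?_).le (by omega)
  · haveI := hirr.1
    obtain ⟨x, hx⟩ := exists_ne (0 : W)
    obtain ⟨y, hy⟩ : ∃ y, y ∉ AddSubgroup.zmultiples x := by
      by_contra h
      push Not at h
      have := hord hx
      rw [(AddSubgroup.eq_top_iff' _).2 h, AddSubgroup.card_top, hw] at this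
      nlinarith
    have h5 := Set.ncard_le_ncard_of_injOn (t := (AddSubgroup.zmultiples x : Set W) \ {0})
      (s := {g : X | ∀ v : W, g • v ∈ AddSubgroup.zmultiples v})
      (fun g : X => g • x) (fun g hg => ⟨hg x, act_ne_zero g hx⟩) fun a ha b hb hab => ?_
    · rwa [Set.ncard_sdiff_singleton_of_mem (zero_mem _), show (AddSubgroup.zmultiples x : Set W).ncard
        = p from hord hx] at h5
    have hab' : a • x = b • x := hab
    obtain ⟨i, hi⟩ := ha y
    obtain ⟨j, hj⟩ := hb y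
    obtain ⟨k, hk⟩ := ha (x + y)
    obtain ⟨l, hl⟩ := hb (x + y)
    simp only at hi hj hk hl
    -- `(k - l) • (x + y) = (i - j) • y`
    have e1 : (k - l) • x = (i - j - (k - l)) • y := by
      have : k • (x + y) - l • (x + y) = i • y - j • y := by
        rw [hk, hl, hi, hj, smul_add, smul_add, hab']
        abel
      linear_combination (norm := module) this
    have e2 : (i - j - (k - l)) • y = 0 := by
      by_contra h
      have h6 : AddSubgroup.zmultiples ((i - j - (k - l)) • y) = AddSubgroup.zmultiples y :=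
        AddSubgroup.eq_of_le_of_card_ge (AddSubgroup.zmultiples_le.2 ⟨_, rfl⟩)
          (by rw [hord h, hord (x := y) fun e => hy (by rw [e]; exact zero_mem _)])
      have h7 : AddSubgroup.zmultiples ((i - j - (k - l)) • y) ≤ AddSubgroup.zmultiples x :=
        AddSubgroup.zmultiples_le.2 ⟨k - l, e1⟩
      exact hy (h7 (h6 ▸ AddSubgroup.mem_zmultiples y))
    have e3 : (k - l) • y = 0 := by
      have h6 : (p : ℤ) ∣ k - l := by
        rw [← addOrderOf_eq_prime (hpW x) hx, addOrderOf_dvd_iff_zsmul_eq_zero, e1, e2]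
      obtain ⟨m, hm⟩ := h6
      rw [hm, mul_comm, mul_smul, natCast_zsmul, hpW, smul_zero]
    refine (inv_mul_eq_one.1 (hfix _ x y hx hy ?_ ?_)).symm
    · rw [mul_smul, hab', inv_smul_smul]
    · rw [mul_smul, inv_smul_eq_iff, ← hi, ← hj]
      linear_combination (norm := module) e2 + e3
  · obtain ⟨x, hx⟩ := not_forall.1 hg
    have hx0 : x ≠ 0 := by
      rintro rfl
      exact hx (by simp)
    rw [← hw]
    refine card_le_of_free (centralizer ({g} : Set X) : Set X) hx0 fun a ha b hb hab => ?_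
    have h1 : (b⁻¹ * a) • x = x := by rw [mul_smul, hab, inv_smul_smul]
    refine (inv_mul_eq_one.1 (hfix _ x (g • x) hx0 hx h1 ?_)).symm
    rw [← mul_smul, mem_centralizer_singleton_iff.1 (mul_mem (inv_mem hb) ha), mul_smul, h1]

/-- the affine model of a primitive solvable group -/
theorem PB.rk {t n : ℕ} (h : PB.{u, u} t n) {G : Type u} [Group G] [Finite G]
    (hG : Group.IsSolvable G) {H : Subgroup G} (hH : IsCoatom H) (ht : H.index = t) :
    RK H (t * n) := by
  obtain ⟨N, _, _, _, hirr, e, he⟩ := aff_model hG hH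
  have hc : Nat.card N = t := by rw [← ht, ← Nat.card_congr e]; rfl
  choose a ha using he
  refine RK.mono ((h G N hG hirr hc).trans (RK.of_index ?_)) H.normalCore_le
  refine (relIndex_le_card _ _ (fun g => a g) fun x y hxy => ?_).trans hc.le
  rw [normalCore_eq_ker, MonoidHom.mem_ker]
  ext ω
  change ((x : G)⁻¹ * y) • ω = ω
  rw [mul_smul, inv_smul_eq_iff]
  apply e.injective
  rw [ha, ha, mem_trv.1 x.2, mem_trv.1 y.2, hxy]

end Cfsg.Agent.KoRo
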