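import Cfsg.Agent.KoRo.PB

/-!
# The quasi-primitive step for class numbers
-/

set_option autoImplicit false
set_option linter.style.haveILetI false
set_option linter.unusedSectionVars false
open scoped commutatorElement

namespace Cfsg.Agent.KoRo
open Subgroup SolvLin

universe u v

theorem finite_hom (X K : Type*) [Group X] [Finite X] [Field K] : Finite (X →* K) :=
  (linearIndependent_monoidHom X K).finite

theorem card_hom_le (X K : Type*) [Group X] [Finite X] [Field K] :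
    Nat.card (X →* K) ≤ Nat.card X := by
  haveI := Fintype.ofFinite X
  haveI := finite_hom X K
  haveI := Fintype.ofFinite (X →* K)
  simpa using (linearIndependent_monoidHom X K).fintype_card_le_finrank

theorem three_pow_mul {a b : ℕ} (ha : 1 ≤ a) (hb : 1 ≤ b) :
    3 ^ (a - 1) * 3 ^ (b - 1) ≤ 3 ^ (a * b - 1) := by
  rw [← pow_add]
  refine Nat.pow_le_pow_right (by decide) ?_
  obtain ⟨a, rfl⟩ := Nat.exists_eq_add_of_le' ha
  obtain ⟨b, rfl⟩ := Nat.exists_eq_add_of_le' hb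
  have : (a + 1) * (b + 1) = a * b + a + b + 1 := by ring
  omega

section
variable {K V Γ M : Type*} [Field K] [AddCommGroup V] [Module K V] [Group Γ]
  [DistribMulAction Γ V] [Group M] [DistribMulAction M V] (H : Heis K V Γ M)

theorem card_W_le [Finite M] [Module.Finite K V] : Nat.card H.W ≤ Module.finrank K V ^ 2 := by
  classical
  haveI := Fintype.ofFinite (M ⧸ H.s.range)
  let T : M ⧸ H.s.range → V →ₗ[K] V := fun w =>
    { toFun := fun v => w.out • v
      map_add' := smul_add _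
      map_smul' := H.lin _ }
  let χ : M ⧸ H.s.range → M →* K := fun w => (Units.coeHom K).comp (H.b.flip w.out)
  have hχ : Function.Injective χ := by
    intro w w' h
    rw [← w.out_eq, ← w'.out_eq]
    change ((w.out : M) : M ⧸ H.s.range) = (w'.out : M)
    rw [QuotientGroup.eq]
    refine H.nondeg fun y => H.b_swap_one ?_
    have h1 : (H.b y w.out : K) = H.b y w'.out := DFunLike.congr_fun h y
    rw [map_mul, map_inv, Units.ext h1, inv_mul_cancel]
  have hli : LinearIndependent K T := by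
    rw [Fintype.linearIndependent_iff]
    intro c hc w
    haveI := H.nontriv
    obtain ⟨v, hv⟩ := exists_ne (0 : V)
    have h1 : ∀ x : M, ∑ w, χ w x • c w • w.out • v = 0 := by
      intro x
      have h2 := congrArg (fun L : V →ₗ[K] V => x • L (x⁻¹ • v)) hc
      simp only [LinearMap.coe_sum, Finset.sum_apply, LinearMap.smul_apply, LinearMap.zero_apply,
        smul_zero, Finset.smul_sum] at h2
      rw [← h2]
      refine Finset.sum_congr rfl fun w _ => ?_
      change (H.b x w.out : K) • _ = x • c w • w.out • x⁻¹ • v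
      rw [H.lin, smul_comm, ← H.s_smul, ← mul_smul, ← mul_smul x, ← mul_smul (x * _), H.mul_eq x,
        mul_assoc, mul_inv_cancel_right]
    have h3 : c w • w.out • v = 0 := by
      rw [← Module.forall_dual_apply_eq_zero_iff K]
      intro φ
      refine Fintype.linearIndependent_iff.1 ((linearIndependent_monoidHom M K).comp χ hχ)
        (fun w => φ (c w • w.out • v)) (funext fun x => ?_) w
      have := congrArg φ (h1 x)
      simpa [mul_comm, Finset.sum_apply] using this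
    exact (smul_eq_zero.1 h3).resolve_right (act_ne_zero _ hv)
  have := hli.fintype_card_le_finrank
  rwa [Module.finrank_linearMap, ← sq, ← Nat.card_eq_fintype_card] at this

theorem card_sq [Finite M] (U : AddSubgroup H.W) (hU : Inv Γ U) : ∃ e, Nat.card U = e ^ 2 := by
  let N := H.msub U
  have hZN : H.s.range ≤ N := fun x hx => H.mem_msub.2 (H.wm_eq_zero.2 hx ▸ zero_mem _)
  have hc : Nat.card U = H.s.range.relIndex N := by
    conv_rhs => rw [← QuotientGroup.ker_mk' H.s.range, ← MonoidHom.comap_bot, relIndex_comap]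
    rw [show N.map _ = _ from map_comap_eq_self_of_surjective (QuotientGroup.mk'_surjective _) _,
      relIndex_bot_left]
    rfl
  obtain ⟨L, hZL, ⟨hLN, hL⟩, hmax⟩ := Finite.exists_le_maximal
    (p := fun L : Subgroup M => L ≤ N ∧ ∀ x ∈ L, ∀ y ∈ L, H.b x y = 1)
    ⟨hZN, fun x hx y _ => H.b_Z_left hx y⟩
  haveI := H.normal_of_le hZL
  have hperp : ∀ x ∈ N, (∀ y ∈ L, H.b x y = 1) → x ∈ L := by
    intro x hx h
    refine hmax (y := L ⊔ zpowers x) ⟨sup_le hLN (zpowers_le.2 hx), fun a ha b hb => ?_⟩ le_sup_left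
      (mem_sup_right (mem_zpowers x))
    obtain ⟨a, ha', _, ⟨i, rfl⟩, rfl⟩ := mem_sup_of_normal_left.1 ha
    obtain ⟨b, hb', _, ⟨j, rfl⟩, rfl⟩ := mem_sup_of_normal_left.1 hb
    simp [hL a ha' b hb', h b hb', H.b_swap_one (h a ha')]
  have h1 : L.relIndex N ≤ H.s.range.relIndex L := by
    haveI := finite_hom (L ⧸ H.s.range.subgroupOf L) K
    refine (relIndex_le_card N L (fun x => (Units.coeHom K).comp (QuotientGroup.lift
      (H.s.range.subgroupOf L) ((H.b x).comp L.subtype) fun y hy => H.b_Z_right hy _))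
      fun x y hxy => hperp _ (mul_mem (inv_mem x.2) y.2) fun z hz => ?_).trans (card_hom_le _ K)
    have : (H.b x z : K) = H.b y z :=
      DFunLike.congr_fun hxy ((⟨z, hz⟩ : L) : L ⧸ H.s.range.subgroupOf L)
    rw [map_mul, map_inv, MonoidHom.mul_apply, MonoidHom.inv_apply, Units.ext this, inv_mul_cancel]
  have h2 : H.s.range.relIndex L ≤ L.relIndex N := by
    haveI := finite_hom (N ⧸ L.subgroupOf N) K
    refine (relIndex_le_card L H.s.range (fun x => (Units.coeHom K).comp (QuotientGroup.lift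
      (L.subgroupOf N) ((H.b x).comp N.subtype) fun y hy => hL _ x.2 _ hy))
      fun x y hxy => ?_).trans (card_hom_le _ K)
    refine H.noiso (N ⊓ H.perp N) (fun g x hx => ⟨hU g _ hx.1, fun d hd => ?_⟩)
      (fun x hx y hy => hy.2 x hx.1) ⟨hLN (mul_mem (inv_mem x.2) y.2), fun z hz => H.b_swap_one ?_⟩
    · have := H.b_κ_one g (hx.2 (H.κ g⁻¹ d) (hU g⁻¹ _ hd))
      rwa [H.κ_inv] at this
    · have : (H.b x z : K) = H.b y z :=
        DFunLike.congr_fun hxy ((⟨z, hz⟩ : N) : N ⧸ L.subgroupOf N)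
      rw [map_mul, map_inv, MonoidHom.mul_apply, MonoidHom.inv_apply, Units.ext this,
        inv_mul_cancel]
  exact ⟨_, by rw [hc, ← relIndex_mul_relIndex _ _ _ hZL hLN, le_antisymm h1 h2, sq]⟩

theorem not_coprime [Finite M] {e : ℕ} (he : 2 ≤ e) (hd : e ∣ Nat.card H.W) :
    ¬ e.Coprime (Nat.card Kˣ) := by
  intro h
  have hp := Nat.minFac_prime (n := e) (by omega)
  haveI := Fact.mk hp
  obtain ⟨w, hw⟩ := exists_prime_addOrderOf_dvd_card' (G := H.W) _ ((Nat.minFac_dvd e).trans hd)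
  obtain ⟨x, rfl⟩ := H.wm_surj w
  have h1 : Nat.card Kˣ • H.wm x = 0 := H.wm_eq_zero.2 (H.pow_card_mem x)
  rw [← addOrderOf_dvd_iff_nsmul_eq_zero, hw] at h1
  exact hp.one_lt.ne' (Nat.eq_one_of_dvd_coprimes h (Nat.minFac_dvd e) h1)

include H in
theorem exists_sig (g : Γ) : ∃ σ : K →+* K, ∀ (c : K) (v : V), g • c • v = σ c • g • v := by
  have h : ∀ c : K, ∃ c' : K, ∀ v : V, g • c • v = c' • g • v := by
    intro c
    by_cases hc : c = 0
    · exact ⟨0, fun v => by simp [hc]⟩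
    · obtain ⟨c', h⟩ := H.κ_s g (Units.mk0 c hc)
      exact ⟨c', fun v => by rw [← H.s_smul, ← h, ← H.κ_smul, H.s_smul, Units.val_mk0]⟩
  choose σ hσ using h
  haveI := H.nontriv
  obtain ⟨v, hv⟩ := exists_ne (0 : V)
  have hv' := act_ne_zero g hv
  refine ⟨⟨⟨⟨σ, smul_cancel hv' ?_⟩, fun a b => smul_cancel hv' ?_⟩, smul_cancel hv' ?_,
    fun a b => smul_cancel hv' ?_⟩, hσ⟩
  · rw [← hσ, one_smul, one_smul]
  · rw [← hσ, mul_smul, mul_smul, hσ, hσ]
  · rw [← hσ, zero_smul, zero_smul, smul_zero]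
  · rw [← hσ, add_smul, add_smul, smul_add, hσ, hσ]

theorem mem_A_iff {g : Γ} : g ∈ H.A ↔ ∀ (c : Kˣ) (v : V), g • (c : K) • v = (c : K) • g • v := by
  refine forall_congr' fun c => ⟨fun h v => ?_, fun h => H.ext_smul fun v => ?_⟩
  · rw [← H.s_smul, H.κ_smul, h, H.s_smul]
  · rw [← smul_inv_smul g v, ← H.κ_smul, H.s_smul, H.s_smul, h]

instance A_normal : H.A.Normal := ⟨fun a ha g c => by
  rw [map_mul, map_mul, MulAut.mul_apply, MulAut.mul_apply, H.κ_Z_eq ha (H.κ_Z _ ⟨c, rfl⟩), H.κ_inv]⟩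

theorem index_A [Finite K] {p f : ℕ} (hp : p.Prime) (hK : Nat.card K = p ^ f) : H.A.index ≤ f := by
  haveI := Fact.mk hp
  haveI := Fintype.ofFinite K
  haveI : CharP K p := charP_of_card_eq_prime_pow (by rw [← Nat.card_eq_fintype_card, hK])
  letI := ZMod.algebra K p
  have hf : Module.finrank (ZMod p) K = f := by
    have := Module.natCard_eq_pow_finrank (K := ZMod p) (V := K)
    rw [Nat.card_zmod, hK] at this
    exact (Nat.pow_right_injective hp.two_le this).symm
  choose σ hσ using exists_sig H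
  rw [← relIndex_top_right, ← hf]
  refine (relIndex_le_card ⊤ _ (fun g => ({ σ g with
    commutes' := fun r => DFunLike.congr_fun (Subsingleton.elim ((σ g).comp (algebraMap (ZMod p) K))
      (algebraMap (ZMod p) K)) r } : K →ₐ[ZMod p] K)) fun x y hxy => ?_).trans
    (card_algHom_le_finrank _ _ _)
  refine (mem_A_iff H).2 fun c v => ?_
  have : σ x c = σ y c := DFunLike.congr_fun hxy (c : K)
  rw [mul_smul, mul_smul, inv_smul_eq_iff, hσ, hσ, smul_inv_smul, this]

theorem card_fix [Finite K] {g : Γ} (hg : g ∉ H.A) :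
    {c : Kˣ | ∀ v : V, g • (c : K) • v = (c : K) • g • v}.ncard ≤ (Nat.card K).sqrt - 1 := by
  obtain ⟨σ, hσ⟩ := exists_sig H g
  let F := σ.eqLocusField (RingHom.id K)
  have h1 : Nat.card F ≤ (Nat.card K).sqrt := by
    have h2 := Module.natCard_eq_pow_finrank (K := F) (V := K)
    have h3 : 0 < Module.finrank F K := Module.finrank_pos
    have h4 : Module.finrank F K ≠ 1 := fun h => hg ((mem_A_iff H).2 fun c v => by
      rw [h, pow_one] at h2
      have h5 : (F : Set K) = Set.univ := Set.eq_of_subset_of_ncard_le (Set.subset_univ _)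
        (by rw [Set.ncard_univ, h2]; rfl)
      have h6 : (c : K) ∈ (F : Set K) := h5 ▸ Set.mem_univ _
      rw [hσ, show σ c = c from h6])
    rw [Nat.le_sqrt', h2]
    exact Nat.pow_le_pow_right Nat.card_pos (by omega)
  haveI := H.nontriv
  obtain ⟨v, hv⟩ := exists_ne (0 : V)
  have h7 := Set.ncard_le_ncard_of_injOn (t := (F : Set K) \ {0})
    (s := {c : Kˣ | ∀ v : V, g • (c : K) • v = (c : K) • g • v}) Units.val
    (fun c hc => ⟨smul_cancel (act_ne_zero g hv) ((hσ c v).symm.trans (hc v)), c.ne_zero⟩)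
    Units.val_injective.injOn
  rw [Set.ncard_sdiff_singleton_of_mem (zero_mem F)] at h7
  exact h7.trans (Nat.sub_le_sub_right h1 1)

end

theorem rk_W {K V : Type*} {Γ : Type v} [Field K] [Finite K] [AddCommGroup V] [Module K V]
    [Group Γ] [Finite Γ] [DistribMulAction Γ V] {M : Subgroup Γ} (H : Heis K V Γ M)
    (hS : Group.IsSolvable Γ) {d : ℕ} (hd : Nat.card H.W ≤ d ^ 2)
    (hpb : ∀ e, 2 ≤ e → e ≤ d → ¬ e.Coprime (Nat.card Kˣ) → PB.{v, v} (e ^ 2) (3 ^ (e - 1))) :
    ∃ e, Nat.card H.W = e ^ 2 ∧ RK (trv Γ H.W) (3 ^ (e - 1)) := by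
  obtain ⟨e, h1, h2⟩ := cr_ind H.W_cr (fun U => ∃ e, Nat.card U = e ^ 2 ∧
      RK (fixingSubgroup Γ (U : Set H.W)) (3 ^ (e - 1)))
    ⟨1, by simp, RK.top.mono fun g _ => (mem_fixingSubgroup_iff Γ).2 fun w hw => by
      rw [show w = 0 from hw, smul_zero]⟩ (by
    rintro U W hU hirr hW hUW ⟨b, hb, hb'⟩
    letI := subAct U hU
    obtain ⟨a, ha⟩ := card_sq H U hU
    haveI := hirr.1
    have h1 : 1 < a ^ 2 := ha ▸ Finite.one_lt_card
    have h2 : 2 ≤ a := by
      by_contra h
      have : a ≤ 1 := by omega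
      interval_cases a <;> simp at h1
    have h3 : a ^ 2 ∣ Nat.card H.W := ha ▸ U.card_addSubgroup_dvd_card
    have h4 : 1 ≤ b := Nat.pos_of_ne_zero fun h => by
      rw [h] at hb
      exact Nat.card_pos.ne' hb
    have h5 := hpb a h2 ((Nat.pow_le_pow_iff_left two_ne_zero).1
      ((Nat.le_of_dvd Nat.card_pos h3).trans hd))
      (not_coprime H h2 ((dvd_pow_self a two_ne_zero).trans h3)) Γ U hS hirr ha
    refine ⟨a * b, by rw [card_sup hUW, ha, hb, mul_pow],
      ((h5.inf hb').le (three_pow_mul (by omega) h4)).mono fun g hg =>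
        (mem_fixingSubgroup_iff Γ).2 fun w hw => ?_⟩
    obtain ⟨x, hx, y, hy, rfl⟩ := AddSubgroup.mem_sup.1 hw
    rw [smul_add, (mem_fixingSubgroup_iff Γ).1 hg.2 y hy]
    exact congrArg (· + y) (congrArg Subtype.val (mem_trv.1 hg.1 ⟨x, hx⟩)))
  exact ⟨e, by simpa using h1, h2.mono fun g hg => mem_trv.2 fun w =>
    (mem_fixingSubgroup_iff Γ).1 hg w trivial⟩

theorem qp {K V : Type*} {Γ : Type v} [Field K] [Finite K] [AddCommGroup V] [Finite V] [Module K V]
    [Group Γ] [Finite Γ] [DistribMulAction Γ V] (S : Setup K V Γ) {p f d : ℕ} (hp : p.Prime)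
    (hK : Nat.card K = p ^ f) (hd : Module.finrank K V = d)
    (hpb : ∀ e, 2 ≤ e → e ≤ d → ¬ e.Coprime (p ^ f - 1) → PB.{v, v} (e ^ 2) (3 ^ (e - 1))) :
    ∃ (M : Subgroup Γ) (e : ℕ), M.Normal ∧ 1 ≤ e ∧ e ≤ d ∧ (2 ≤ e → ¬ e.Coprime (p ^ f - 1)) ∧
      Nat.card M = (p ^ f - 1) * e ^ 2 ∧ RK M (f * 3 ^ (e - 1)) ∧
      (∀ x ∈ M, ∀ y ∈ M, ∀ z ∈ M, ⁅⁅x, y⁆, z⁆ = 1) ∧
      (∀ v : V, v ≠ 0 → ∀ x ∈ M, ∀ y ∈ M, x • v = v → y • v = v → ⁅x, y⁆ = 1) ∧
      (e = 1 → SK Γ (p ^ f - 1 + ((p ^ f).sqrt - 1) * f)) := by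
  obtain ⟨M, H, -⟩ := S.exists_heis
  have hu : Nat.card Kˣ = p ^ f - 1 := by rw [Nat.card_units, hK]
  have hW := card_W_le H
  rw [hd] at hW
  obtain ⟨e, he, hrk⟩ := rk_W H S.solv hW (hu ▸ hpb)
  have hext : ∀ x y : Γ, (∀ v : V, x • v = y • v) → x = y := fun x y h =>
    (inv_mul_eq_one.1 (S.faithful (y⁻¹ * x) fun v => by rw [mul_smul, h, inv_smul_smul])).symm
  have hAM : H.A ⊓ trv Γ H.W ≤ M := fun g hg => by
    obtain ⟨m, hm⟩ := H.inner' hg.1 (mem_trv.1 hg.2)
    exact hext _ _ hm ▸ m.2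
  have hc : Nat.card M = (p ^ f - 1) * e ^ 2 := by
    rw [← hu, ← he, ← H.s.range.card_mul_index,
      ← Nat.card_congr (MonoidHom.ofInjective H.s_inj).toEquiv]
    rfl
  have hcomm : ∀ x y : M, ⁅x, y⁆ = H.s (H.b x y) := fun x y => by
    rw [commutatorElement_def, H.mul_eq x y]
    group
  have hn : M.Normal := ⟨fun m hm g => by
    rw [hext (g * m * g⁻¹) (H.κ g ⟨m, hm⟩) fun v => by
      have := H.κ_smul g ⟨m, hm⟩ (g⁻¹ • v)
      rw [smul_inv_smul] at this
      rw [mul_smul, mul_smul]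
      exact this]
    exact Subtype.property _⟩
  refine ⟨M, e, hn, Nat.pos_of_ne_zero fun h => ?_,
    (Nat.pow_le_pow_iff_left two_ne_zero).1 (he ▸ hW),
    fun h => hu ▸ not_coprime H h (he ▸ dvd_pow_self e two_ne_zero), hc,
    ((RK.of_index (index_A H hp hK)).inf hrk).mono hAM, fun x hx y hy z hz => ?_,
    fun v hv x hx y hy h1 h2 => ?_, fun h => ?_⟩
  · rw [h] at he
    exact Nat.card_pos.ne' he
  · have : ⁅⁅(⟨x, hx⟩ : M), (⟨y, hy⟩ : M)⁆, (⟨z, hz⟩ : M)⁆ = 1 := by
      rw [hcomm ⟨x, hx⟩, hcomm, H.b_s_left, map_one]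
    exact congrArg Subtype.val this
  · have : ⁅(⟨x, hx⟩ : M), (⟨y, hy⟩ : M)⁆ = 1 := by
      refine H.eq_one_of_Z_fix hv ⟨_, (hcomm _ _).symm⟩ ?_
      change ⁅x, y⁆ • v = v
      rw [commutatorElement_def, mul_smul, mul_smul, mul_smul, inv_smul_eq_iff.2 h2.symm,
        inv_smul_eq_iff.2 h1.symm, h2, h1]
    exact congrArg Subtype.val this
  · subst h
    haveI : Subsingleton H.W := (Nat.card_eq_one_iff_unique.1 he).1
    have hAM' : H.A ≤ M := fun g hg => hAM ⟨hg, mem_trv.2 fun w => Subsingleton.elim _ _⟩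
    refine (SK.avg (M : Set Γ) (a := p ^ f - 1) (c := ((p ^ f).sqrt - 1) * f + 1) M.one_mem
      (le_of_eq (by simpa using hc : Nat.card M = _)) (by omega) fun g hg => ?_).le (by omega)
    rw [← ((M.subgroupOf (centralizer {g})).card_mul_index)]
    refine (Nat.mul_le_mul ?_ ((relIndex_le_of_le_right le_top ?_).trans ?_)).trans (Nat.le_succ _)
    · have h1 : ∀ x : M.subgroupOf (centralizer {g}), ∃ c, H.s c = ⟨x.1, x.2⟩ := fun x =>
        H.wm_eq_zero.1 (Subsingleton.elim _ _)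
      choose c hc using h1
      refine le_trans ?_ (hK ▸ card_fix H fun h => hg (hAM' h))
      refine Nat.card_le_card_of_injective (β := {c : Kˣ | ∀ v : V, g • (c : K) • v = (c : K) • g • v})
        (fun x => ⟨c x, fun v => ?_⟩) fun x y hxy => ?_
      · rw [← H.s_smul, ← H.s_smul, hc]
        change g • (x.1 : Γ) • v = (x.1 : Γ) • g • v
        rw [← mul_smul, ← mul_smul, mem_centralizer_singleton_iff.1 x.1.2]
      · have := hc x
        rw [show c x = c y from congrArg Subtype.val hxy, hc] at this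
        exact Subtype.ext (Subtype.ext (congrArg (Subtype.val : M → Γ) this).symm)
    · exact FiniteIndex.index_ne_zero
    · rw [relIndex_top_right]
      exact (index_antitone hAM').trans (index_A H hp hK)

end Cfsg.Agent.KoRo
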